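import Groth.Agent.Neron.K131.SpreadObj

/-!
# Local data from Néron models over the local rings
-/

set_option autoImplicit false
universe u

open CategoryTheory CategoryTheory.Limits AlgebraicGeometry TopologicalSpace

namespace K131.LocData

open LocNeron LocGlob

variable {S : Scheme.{u}} [IsIntegral S] [IsNoetherian S]

theorem exists_localData (s : S) (J : Over (Spec S.functionField)) (N₀ : Over (Spec (S.presheaf.stalk s)))
    (e : (Over.pullback (Spec.map (S.presheaf.stalkSpecializes (genericPoint_specializes s)))).obj N₀ ≅ J)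
    (h1 : Smooth N₀.hom) (h2 : IsSeparated N₀.hom) (h3 : QuasiCompact N₀.hom)
    (h4 : ∀ Y : Over (Spec (S.presheaf.stalk s)), Smooth Y.hom → Function.Bijective (fun g : Y ⟶ N₀ =>
      (Over.pullback (Spec.map (S.presheaf.stalkSpecializes (genericPoint_specializes s)))).map g)) :
    ∃ (M : Over S) (_ : (Over.pullback (S.fromSpecStalk (genericPoint S))).obj M ≅ J),
      Smooth M.hom ∧ IsSeparated M.hom ∧ QuasiCompact M.hom ∧ NAt M s := by
  obtain ⟨V, N, n, c, hs, k1, k2, k3, sq⟩ := SpreadObj.exists_spread s N₀.hom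
  let M : Over S := Over.mk (n ≫ V.ι)
  have sq' : IsPullback c N₀.hom M.hom (S.fromSpecStalk s) := sq
  let σ := Spec.map (S.presheaf.stalkSpecializes (genericPoint_specializes s))
  have hσ : σ ≫ S.fromSpecStalk s = S.fromSpecStalk (genericPoint S) :=
    Scheme.SpecMap_stalkSpecializes_fromSpecStalk _
  have h5 : IsPullback (pullback.fst N₀.hom σ ≫ c) (pullback.snd N₀.hom σ) M.hom (S.fromSpecStalk (genericPoint S)) := by
    have := (IsPullback.of_hasPullback N₀.hom σ).paste_horiz sq'
    rwa [hσ] at this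
  let e₁ : (Over.pullback (S.fromSpecStalk (genericPoint S))).obj M ≅ (Over.pullback σ).obj N₀ :=
    Over.isoMk ((IsPullback.of_hasPullback M.hom (S.fromSpecStalk (genericPoint S))).isoIsPullback _ _ h5)
      (IsPullback.isoIsPullback_hom_snd _ _ _ _)
  refine ⟨M, e₁ ≪≫ e, inferInstanceAs (Smooth (n ≫ V.ι)), inferInstanceAs (IsSeparated (n ≫ V.ι)),
    inferInstanceAs (QuasiCompact (n ≫ V.ι)), nAt_of_bij N₀ c sq' h4⟩

theorem exists_localData' (s : S) (J : Over (Spec S.functionField))
    (N₀ : Over (Spec (CommRingCat.of (S.presheaf.stalk s))))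
    (e : (SGA7.genFib (S.presheaf.stalk s) S.functionField).obj N₀ ≅ J)
    (h : SGA7.IsNeron (S.presheaf.stalk s) S.functionField N₀) :
    ∃ (M : Over S) (_ : (Over.pullback (S.fromSpecStalk (genericPoint S))).obj M ≅ J),
      Smooth M.hom ∧ IsSeparated M.hom ∧ QuasiCompact M.hom ∧ NAt M s :=
  exists_localData s J N₀ e h.1 h.2.1 h.2.2.1 h.2.2.2

end K131.LocData
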