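import Groth.Agent.Neron.K487.LftLocal
import Groth.Prelude.Def_SGA7IX

/-!
# The Néron mapping property at a point of the base

`NAt N p`: the mapping property of `N ×_S Spec O_{S,p}` over `Spec O_{S,p}`, in terms of plain morphisms.
-/

set_option autoImplicit false
universe u

open CategoryTheory CategoryTheory.Limits AlgebraicGeometry

namespace K131.LocNeron

variable {S : Scheme.{u}} [IsIntegral S]

/-- The mapping property over the local ring at `p`. -/
def NAt (N : Over S) (p : S) : Prop :=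
  ∀ (Z ZT : Scheme.{u}) (z : Z ⟶ Spec (S.presheaf.stalk p)) (_ : Smooth z) (a : ZT ⟶ Z)
    (b : ZT ⟶ Spec (S.presheaf.stalk (genericPoint S)))
    (_ : IsPullback a b z (Spec.map (S.presheaf.stalkSpecializes (genericPoint_specializes p))))
    (f : ZT ⟶ N.left) (_ : f ≫ N.hom = a ≫ z ≫ S.fromSpecStalk p),
    ∃! g : Z ⟶ N.left, g ≫ N.hom = z ≫ S.fromSpecStalk p ∧ a ≫ g = f

/-- The global mapping property from the local ones. -/
theorem bijective_of_nAt [IsNoetherian S] (N : Over S) [LocallyOfFiniteType N.hom]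
    (h : ∀ p : S, IsClosed ({p} : Set S) → NAt N p) (Y : Over S) (hY : Smooth Y.hom) :
    Function.Bijective (fun g : Y ⟶ N => (Over.pullback (S.fromSpecStalk (genericPoint S))).map g) := by
  have hL : K487.LftLocal.LocHyp N := fun p hp => h p hp
  rw [K487.MapProp.bij_iff]
  intro f hf
  obtain ⟨g, hg1, hg2⟩ := K487.LftLocal.exists_ext hL Y.hom f hf
  exact ⟨g, ⟨hg1, hg2⟩, fun g' hg' => K487.LftLocal.ext_aux hL Y.hom g' g hg'.1 hg1 (hg'.2.trans hg2.symm)⟩

omit [IsIntegral S] in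
/-- The mapping property in terms of an arbitrary pullback square. -/
theorem exists_unique_of_bij {B T : Scheme.{u}} (j : T ⟶ B) (G : Over B)
    {Z ZT : Scheme.{u}} (z : Z ⟶ B) (a : ZT ⟶ Z) (b : ZT ⟶ T) (sq : IsPullback a b z j)
    (h : Function.Bijective (fun g : Over.mk z ⟶ G => (Over.pullback j).map g))
    (f : ZT ⟶ G.left) (hf : f ≫ G.hom = a ≫ z) :
    ∃! g : Z ⟶ G.left, g ≫ G.hom = z ∧ a ≫ g = f := by
  have h1 := (K487.MapProp.bij_iff j (Over.mk z) G).mp h
  let e : pullback z j ≅ ZT := sq.isoPullback.symm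
  have he : e.hom ≫ a = pullback.fst z j := sq.isoPullback_inv_fst
  obtain ⟨g, ⟨hg1, hg2⟩, hg3⟩ := h1 (e.hom ≫ f) (by
    rw [Category.assoc, hf, reassoc_of% he]
    rfl)
  refine ⟨g, ⟨hg1, ?_⟩, ?_⟩
  · rw [← cancel_epi e.hom, reassoc_of% he]
    exact hg2
  · rintro g' ⟨h2, h3⟩
    exact hg3 g' ⟨h2, by
      change pullback.fst z j ≫ g' = _
      rw [← he, Category.assoc, h3]⟩

/-- Any cartesian square exhibiting a Néron model over the local ring. -/
theorem nAt_of_bij {N : Over S} {p : S} (M : Over (Spec (S.presheaf.stalk p))) (c : M.left ⟶ N.left)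
    (sq : IsPullback c M.hom N.hom (S.fromSpecStalk p))
    (h : ∀ Y : Over (Spec (S.presheaf.stalk p)), Smooth Y.hom →
      Function.Bijective (fun g : Y ⟶ M =>
        (Over.pullback (Spec.map (S.presheaf.stalkSpecializes (genericPoint_specializes p)))).map g)) :
    NAt N p := by
  intro Z ZT z hz a b hsq f hf
  have hw : f ≫ N.hom = (a ≫ z) ≫ S.fromSpecStalk p := by rw [hf, Category.assoc]
  obtain ⟨g, ⟨hg1, hg2⟩, hg3⟩ := exists_unique_of_bij _ M z a b hsq (h (Over.mk z) hz) (sq.lift f (a ≫ z) hw)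
    (sq.lift_snd _ _ hw)
  refine ⟨g ≫ c, ⟨?_, ?_⟩, ?_⟩
  · rw [Category.assoc, sq.w, ← Category.assoc, hg1]
  · rw [← Category.assoc, hg2, sq.lift_fst]
  · rintro g' ⟨h1, h2⟩
    have h3 := hg3 (sq.lift g' z h1) ⟨sq.lift_snd _ _ h1, by
      apply sq.hom_ext
      · rw [Category.assoc, sq.lift_fst, h2, sq.lift_fst]
      · rw [Category.assoc, sq.lift_snd, sq.lift_snd]⟩
    rw [← h3, sq.lift_fst]

/-- The mapping property at `p` only depends on the restriction to an open containing `p`. -/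
theorem nAt_of_restrict {N N' : Over S} {p : S} {W Y : Scheme.{u}} (w : W ⟶ S) (hw : ∃ l, l ≫ w = S.fromSpecStalk p)
    (y : Y ⟶ W) (i : Y ⟶ N.left) (i' : Y ⟶ N'.left) (sq : IsPullback i y N.hom w) (sq' : IsPullback i' y N'.hom w)
    (h : NAt N p) : NAt N' p := by
  obtain ⟨l, hl⟩ := hw
  intro Z ZT z hz a b hsq f hf
  have hf1 : f ≫ N'.hom = (a ≫ z ≫ l) ≫ w := by rw [hf, ← hl]; simp only [Category.assoc]
  let fY := sq'.lift f (a ≫ z ≫ l) hf1
  obtain ⟨g, ⟨hg1, hg2⟩, hg3⟩ := h Z ZT z hz a b hsq (fY ≫ i) (by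
    rw [Category.assoc, sq.w, ← hl, ← Category.assoc, sq'.lift_snd]
    simp only [Category.assoc])
  have hg4 : g ≫ N.hom = (z ≫ l) ≫ w := by rw [hg1, ← hl, Category.assoc]
  refine ⟨sq.lift g (z ≫ l) hg4 ≫ i', ⟨?_, ?_⟩, ?_⟩
  · rw [Category.assoc, sq'.w, ← Category.assoc, sq.lift_snd, Category.assoc, hl]
  · have h5 : a ≫ sq.lift g (z ≫ l) hg4 = fY := by
      apply sq.hom_ext
      · rw [Category.assoc, sq.lift_fst, hg2]
      · rw [Category.assoc, sq.lift_snd, sq'.lift_snd]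
    rw [← Category.assoc, h5, sq'.lift_fst]
  · rintro g' ⟨h1, h2⟩
    have h3 : g' ≫ N'.hom = (z ≫ l) ≫ w := by rw [h1, ← hl, Category.assoc]
    have h6 := hg3 (sq'.lift g' (z ≫ l) h3 ≫ i) ⟨by
      rw [Category.assoc, sq.w, ← Category.assoc, sq'.lift_snd, Category.assoc, hl], by
      rw [← Category.assoc]
      congr 1
      apply sq'.hom_ext
      · rw [Category.assoc, sq'.lift_fst, h2, sq'.lift_fst]
      · rw [Category.assoc, sq'.lift_snd, sq'.lift_snd]⟩
    have h7 : sq.lift g (z ≫ l) hg4 = sq'.lift g' (z ≫ l) h3 := by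
      apply sq.hom_ext
      · rw [sq.lift_fst, h6]
      · rw [sq.lift_snd, sq'.lift_snd]
    rw [h7, sq'.lift_fst]

end K131.LocNeron
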