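import Groth.Agent.Neron.K131.GlueStep
import Groth.Agent.Neron.K131.LocNeron
import Groth.Prelude.Def_Red

/-!
# Néron models over a Dedekind scheme from local data

`exists_neron_of_local`: `S` integral Noetherian of dimension one, `J` over the function field; suppose that there is a
smooth separated quasi-compact `N` over `S` with generic fibre `J` which has the mapping property at all closed points
of a non-empty open of `S`, and for every closed point `s` such an `M` with the mapping property at `s`. Then `J` has a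
Néron model over `S`.
-/

set_option autoImplicit false
universe u

open CategoryTheory CategoryTheory.Limits AlgebraicGeometry TopologicalSpace

namespace K131.LocGlob

open LocNeron

variable {S : Scheme.{u}} [IsIntegral S]

/-- `J` has a model over `S` with the mapping property at the closed points of `W`. -/
def Part (J : Over (Spec S.functionField)) (W : S.Opens) : Prop :=
  ∃ (N : Over S) (_ : (Over.pullback (S.fromSpecStalk (genericPoint S))).obj N ≅ J),
    Smooth N.hom ∧ IsSeparated N.hom ∧ QuasiCompact N.hom ∧ ∀ p ∈ W, IsClosed ({p} : Set S) → NAt N p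

omit [IsIntegral S] in
/-- Base changes of schemes with isomorphic restrictions. -/
theorem iso_of_restrict {N N' : Over S} {W Y T : Scheme.{u}} (w : W ⟶ S) (y : Y ⟶ W) (i : Y ⟶ N.left)
    (i' : Y ⟶ N'.left) (sq : IsPullback i y N.hom w) (sq' : IsPullback i' y N'.hom w) (g : T ⟶ S) (l : T ⟶ W)
    (hl : l ≫ w = g) : Nonempty ((Over.pullback g).obj N ≅ (Over.pullback g).obj N') := by
  subst hl
  have h1 := (IsPullback.of_hasPullback y l).paste_horiz sq
  have h2 := (IsPullback.of_hasPullback y l).paste_horiz sq'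
  refine ⟨Over.isoMk ((IsPullback.of_hasPullback N.hom (l ≫ w)).isoIsPullback _ _ h1 ≪≫
    h2.isoIsPullback _ _ (IsPullback.of_hasPullback N'.hom (l ≫ w))) ?_⟩
  change (_ ≫ _) ≫ pullback.snd N'.hom (l ≫ w) = pullback.snd N.hom (l ≫ w)
  rw [Category.assoc, IsPullback.isoIsPullback_hom_snd, IsPullback.isoIsPullback_hom_snd]

omit [IsIntegral S] in
/-- `Spec O_{S,p}` maps to every open containing `p`. -/
theorem exists_leg (W : S.Opens) {p : S} (hp : p ∈ W) : ∃ l : Spec (S.presheaf.stalk p) ⟶ W.toScheme,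
    l ≫ W.ι = S.fromSpecStalk p :=
  ⟨W.fromSpecStalkOfMem p hp, Scheme.Opens.fromSpecStalkOfMem_ι ..⟩

theorem step [IsNoetherian S] (hdim : topologicalKrullDim S ≤ 1) {J : Over (Spec S.functionField)} {W : S.Opens}
    (hW : genericPoint S ∈ W) (h : Part J W) {s : S} (hs : s ∉ W) (M : Over S)
    (eM : (Over.pullback (S.fromSpecStalk (genericPoint S))).obj M ≅ J) (h1 : Smooth M.hom) (h2 : IsSeparated M.hom)
    (h3 : QuasiCompact M.hom) (h4 : NAt M s) : ∃ V : S.Opens, s ∈ V ∧ Part J (W ⊔ V) := by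
  obtain ⟨N, e, hN1, hN2, hN3, hN4⟩ := h
  let e' : (Over.pullback (S.fromSpecStalk (genericPoint S))).obj N ≅
    (Over.pullback (S.fromSpecStalk (genericPoint S))).obj M := e ≪≫ eM.symm
  obtain ⟨V, N', hsV, -, hV, g1, g2, g3, -, ⟨Y, y, i, i', q1, q2⟩, ⟨Y', y', j, j', q3, q4⟩⟩ :=
    GlueStep.glue_step hdim N M W ⊤ hW s trivial hs ((Over.forget _).mapIso e') (Over.w e'.hom)
  obtain ⟨l, hl⟩ := exists_leg W hW
  obtain ⟨e₁⟩ := iso_of_restrict W.ι y i i' q1 q2 _ l hl
  refine ⟨V, hsV, N', e₁.symm ≪≫ e, g1, g2, g3, ?_⟩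
  · intro p hp hpc
    by_cases hpW : p ∈ W
    · exact nAt_of_restrict W.ι (exists_leg W hpW) y i i' q1 q2 (hN4 p hpW hpc)
    · have hpV : p ∈ V := hp.resolve_left hpW
      have hps : p = s := by
        by_contra hne
        exact hpW (hV p hpV hne)
      subst hps
      exact nAt_of_restrict V.ι (exists_leg V hpV) y' j j' q3 q4 h4

theorem part_top [IsNoetherian S] (hdim : topologicalKrullDim S ≤ 1) {J : Over (Spec S.functionField)}
    {W₀ : S.Opens} (hW₀ : genericPoint S ∈ W₀) (h₀ : Part J W₀)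
    (hloc : ∀ s : S, IsClosed ({s} : Set S) → s ∉ W₀ →
      ∃ (M : Over S) (_ : (Over.pullback (S.fromSpecStalk (genericPoint S))).obj M ≅ J),
        Smooth M.hom ∧ IsSeparated M.hom ∧ QuasiCompact M.hom ∧ NAt M s) :
    ∃ W : S.Opens, (∀ s : S, IsClosed ({s} : Set S) → s ∈ W) ∧ Part J W := by
  have hwf : WellFounded ((· > ·) : S.Opens → S.Opens → Prop) := wellFounded_gt
  obtain ⟨W, ⟨hW1, hW2⟩, hmax⟩ := hwf.has_min {W | W₀ ≤ W ∧ Part J W} ⟨W₀, le_rfl, h₀⟩
  refine ⟨W, fun s hs => ?_, hW2⟩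
  by_contra hsW
  obtain ⟨M, eM, h1, h2, h3, h4⟩ := hloc s hs (fun h => hsW (hW1 h))
  obtain ⟨V, hsV, hV⟩ := step hdim (hW1 hW₀) hW2 hsW M eM h1 h2 h3 h4
  refine hmax (W ⊔ V) ⟨hW1.trans le_sup_left, hV⟩ ?_
  refine lt_of_le_of_ne le_sup_left fun h => hsW ?_
  rw [h]
  exact Or.inr hsV

/-- **Néron models from local data.** -/
theorem exists_neron_of_local [IsNoetherian S] (hdim : topologicalKrullDim S ≤ 1) {J : Over (Spec S.functionField)}
    {W₀ : S.Opens} (hW₀ : genericPoint S ∈ W₀) (h₀ : Part J W₀)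
    (hloc : ∀ s : S, IsClosed ({s} : Set S) → s ∉ W₀ →
      ∃ (M : Over S) (_ : (Over.pullback (S.fromSpecStalk (genericPoint S))).obj M ≅ J),
        Smooth M.hom ∧ IsSeparated M.hom ∧ QuasiCompact M.hom ∧ NAt M s) :
    ∃ (N : Over S) (e : (Over.pullback (S.fromSpecStalk (genericPoint S))).obj N ≅ J),
      Smooth N.hom ∧ IsSeparated N.hom ∧ QuasiCompact N.hom ∧
      ∀ Y : Over S, Smooth Y.hom →
        Function.Bijective (fun h : Y ⟶ N => (Over.pullback (S.fromSpecStalk (genericPoint S))).map h ≫ e.hom) := by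
  obtain ⟨W, hW, N, e, h1, h2, h3, h4⟩ := part_top hdim hW₀ h₀ hloc
  refine ⟨N, e, h1, h2, h3, fun Y hY => ?_⟩
  have h5 := bijective_of_nAt N (fun p hp => h4 p (hW p hp) hp) Y hY
  have h6 : Function.Bijective (fun f : (Over.pullback (S.fromSpecStalk (genericPoint S))).obj Y ⟶
      (Over.pullback (S.fromSpecStalk (genericPoint S))).obj N => f ≫ e.hom) :=
    ⟨fun f g hfg => (cancel_mono e.hom).1 hfg, fun g => ⟨g ≫ e.inv, by simp⟩⟩
  exact h6.comp h5

end K131.LocGlob
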