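import Groth.Agent.Ega4B.GRingLoc
import Groth.Agent.S9126
import Groth.Agent.Hensel.K140.LocalJ2
import Mathlib.AlgebraicGeometry.FunctionField
import Mathlib.AlgebraicGeometry.Noetherian

/-!
# Local rings of excellent schemes
-/

set_option autoImplicit false
universe u

open CategoryTheory CategoryTheory.Limits AlgebraicGeometry

namespace K131.StalkFacts

/-- Local rings of schemes with excellent affine opens. -/
theorem isExcellent_stalk {X : Scheme.{u}} (hexc : ∀ V : X.affineOpens, EGA4.IsExcellent Γ(X, V)) (x : X) :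
    EGA4.IsExcellent (X.presheaf.stalk x) := by
  obtain ⟨U, hU, hxU, -⟩ := exists_isAffineOpen_mem_and_subset (x := x) (U := ⊤) trivial
  let _ := X.presheaf.algebra_section_stalk ⟨x, hxU⟩
  have hloc := hU.isLocalization_stalk ⟨x, hxU⟩
  have hB : EGA4.IsExcellent Γ(X, U) := hexc ⟨U, hU⟩
  have hNB : IsNoetherianRing Γ(X, U) := hB.1
  have h1 : Algebra.EssFiniteType Γ(X, U) (X.presheaf.stalk x) :=
    Algebra.EssFiniteType.of_isLocalization (X.presheaf.stalk x) (hU.primeIdealOf ⟨x, hxU⟩).asIdeal.primeCompl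
  have h2 : CAlg.IsGRing (X.presheaf.stalk x) := Groth.Agent.Ega4B.GRingLoc.isGRing_of_isLocalization Γ(X, U)
    (X.presheaf.stalk x) (hU.primeIdealOf ⟨x, hxU⟩).asIdeal.primeCompl hB.2.2.1
  exact ⟨h2.1, Groth.Agent.S9126.result Γ(X, U) (X.presheaf.stalk x) hB.2.1, h2,
    K140.LocalJ2.isJ2_of_isGRing (X.presheaf.stalk x) h2⟩

end K131.StalkFacts
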