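import Groth.Agent.Neron.K131.LocMain
import Groth.Agent.Neron.K131.StalkFacts
import Groth.Agent.Neron.K131.LocGlob
import Groth.Agent.Neron.K131.LocData
import Groth.Agent.Neron.K531.Loc
import Groth.Agent.Neron.K486.SpreadGrp

/-!
# Assembly: global Néron models from parameter data and the extension property over an open
-/

set_option autoImplicit false
universe u

open CategoryTheory CategoryTheory.Limits AlgebraicGeometry TopologicalSpace

namespace K131.Asm

open ParData LocNeron LocGlob LocData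

theorem isPullback_comp_mono {G U S T : Scheme.{u}} (g : G ⟶ U) (i : U ⟶ S) [Mono i] (l : T ⟶ U) {t : T ⟶ S}
    (hl : l ≫ i = t) : IsPullback (pullback.fst g l) (pullback.snd g l) (g ≫ i) t := by
  subst hl
  refine ⟨⟨by rw [pullback.condition_assoc]⟩, ⟨PullbackCone.IsLimit.mk _
    (fun s => pullback.lift s.fst s.snd ((cancel_mono i).1 (by
      rw [Category.assoc, Category.assoc]
      exact s.condition)))
    (fun s => pullback.lift_fst _ _ _) (fun s => pullback.lift_snd _ _ _) fun s m h1 h2 => ?_⟩⟩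
  apply pullback.hom_ext
  · rw [h1, pullback.lift_fst]
  · rw [h2, pullback.lift_snd]

/-- The generic point of an integral scheme of dimension one is not closed. -/
theorem ne_genericPoint {S : Scheme.{u}} [IsIntegral S] (hdimS : topologicalKrullDim S = 1) {s : S}
    (hs : IsClosed ({s} : Set S)) : s ≠ genericPoint S := by
  rintro rfl
  have h1 : (Set.univ : Set S) = {genericPoint S} := by
    rw [← genericPoint_closure, hs.closure_eq]
  have h2 : Subsingleton S := Set.subsingleton_univ_iff.1 (h1 ▸ Set.subsingleton_singleton)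
  have h3 : topologicalKrullDim S ≤ 0 := by
    have : Subsingleton (IrreducibleCloseds S) := ⟨fun A B => by
      apply IrreducibleCloseds.ext
      rw [Set.Nonempty.eq_univ A.isIrreducible.nonempty, Set.Nonempty.eq_univ B.isIrreducible.nonempty]⟩
    exact Order.krullDim_nonpos_of_subsingleton
  rw [hdimS] at h3
  exact absurd h3 (by norm_num)

variable {S : Scheme.{u}} [IsIntegral S]

/-- The extension property for points over an open gives a Néron model over the open. -/
theorem part_of_ext (hreg : ∀ s : S, IsRegularLocalRing (S.presheaf.stalk s)) (hdimS : topologicalKrullDim S = 1)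
    {J : Over (Spec S.functionField)} {U0 : S.Opens} (G : Over U0.toScheme) [GrpObj G] (h1 : Smooth G.hom)
    (h2 : IsSeparated G.hom) (h3 : QuasiCompact (G.hom ≫ U0.ι))
    (e : (Over.pullback (S.fromSpecStalk (genericPoint S))).obj (Over.mk (G.hom ≫ U0.ι)) ≅ J)
    (U : S.Opens)
    (hU : ∀ (R F : Type u) [CommRing R] [IsDomain R] [IsDiscreteValuationRing R]
      [HenselianLocalRing R] [IsSepClosed (IsLocalRing.ResidueField R)] [Field F] [Algebra R F] [IsFractionRing R F]
      (r : Spec (CommRingCat.of R) ⟶ S), WeaklyEtale r → r (IsLocalRing.closedPoint R) ∈ U →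
      ∀ y : Spec (CommRingCat.of F) ⟶ G.left,
        y ≫ G.hom ≫ U0.ι = Spec.map (CommRingCat.ofHom (algebraMap R F)) ≫ r →
        ∃ z : Spec (CommRingCat.of R) ⟶ G.left, z ≫ G.hom ≫ U0.ι = r ∧
          Spec.map (CommRingCat.ofHom (algebraMap R F)) ≫ z = y) : Part J (U ⊓ U0) := by
  refine ⟨Over.mk (G.hom ≫ U0.ι), e, ?_, ?_, h3, fun p hp hpc => ?_⟩
  · exact inferInstanceAs (Smooth (G.hom ≫ U0.ι))
  · exact inferInstanceAs (IsSeparated (G.hom ≫ U0.ι))
  · have hne := ne_genericPoint hdimS hpc
    have hdvr := K531.Loc.isDiscreteValuationRing_stalk hreg hdimS.le p hne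
    obtain ⟨l, hl⟩ := exists_leg U0 hp.2
    have hqc : QuasiCompact G.hom := QuasiCompact.of_comp G.hom U0.ι
    have hN := K531.Loc.isNeron_stalk G p l hl fun R F _ _ _ _ _ _ _ _ r hr hrp y hy =>
      hU R F r hr (hrp ▸ hp.1) y hy
    exact nAt_of_bij (N := Over.mk (G.hom ≫ U0.ι)) (p := p) (Red.bc l G) (pullback.fst G.hom l)
      (isPullback_comp_mono G.hom U0.ι l hl) hN.2.2.2

/-- The local Néron models. -/
theorem exists_localModel [IsNoetherian S] (hreg : ∀ s : S, IsRegularLocalRing (S.presheaf.stalk s)) (hdimS : topologicalKrullDim S = 1)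
    (hexc : ∀ U : S.affineOpens, EGA4.IsExcellent Γ(S, U))
    (J : Over (Spec (CommRingCat.of S.functionField))) [GrpObj J] [IsCommMonObj J]
    [Smooth J.hom] [IsSeparated J.hom] [QuasiCompact J.hom] [GeometricallyIrreducible J.hom] (D : Par J.hom)
    (s : S) (hs : s ≠ genericPoint S) :
    ∃ (M : Over S) (_ : (Over.pullback (S.fromSpecStalk (genericPoint S))).obj M ≅ J),
      Smooth M.hom ∧ IsSeparated M.hom ∧ QuasiCompact M.hom ∧ NAt M s := by
  have hdvr := K531.Loc.isDiscreteValuationRing_stalk hreg hdimS.le s hs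
  obtain ⟨N, e, hN⟩ := LocMain.exists_local (R := S.presheaf.stalk s) (K := S.functionField)
    (StalkFacts.isExcellent_stalk hexc s) J D
  exact exists_localData' s J N e hN

/-- **Global Néron models** from parameter data and the extension property over an open. -/
theorem exists_neron [IsNoetherian S] (hreg : ∀ s : S, IsRegularLocalRing (S.presheaf.stalk s))
    (hdimS : topologicalKrullDim S = 1) (hexc : ∀ U : S.affineOpens, EGA4.IsExcellent Γ(S, U))
    (J : Over (Spec (CommRingCat.of S.functionField))) [GrpObj J] [IsCommMonObj J]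
    [Smooth J.hom] [IsSeparated J.hom] [QuasiCompact J.hom] [GeometricallyIrreducible J.hom] (D : Par J.hom)
    (hPG : ∀ (G : Scheme.{u}) (γ : G ⟶ S) [LocallyOfFiniteType γ] [IsSeparated γ] [QuasiCompact γ]
      (κ : Spec (CommRingCat.of S.functionField) ⟶ S) (_ : κ = S.fromSpecStalk (genericPoint S))
      (e : pullback γ κ ≅ J.left) (_ : e.hom ≫ J.hom = pullback.snd γ κ),
      ∃ U : S.Opens, genericPoint S ∈ U ∧ ∀ (R F : Type u) [CommRing R] [IsDomain R] [IsDiscreteValuationRing R]
      [HenselianLocalRing R] [IsSepClosed (IsLocalRing.ResidueField R)] [Field F] [Algebra R F] [IsFractionRing R F]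
      (r : Spec (CommRingCat.of R) ⟶ S), WeaklyEtale r → r (IsLocalRing.closedPoint R) ∈ U →
      ∀ y : Spec (CommRingCat.of F) ⟶ G,
        y ≫ γ = Spec.map (CommRingCat.ofHom (algebraMap R F)) ≫ r →
        ∃ z : Spec (CommRingCat.of R) ⟶ G, z ≫ γ = r ∧
          Spec.map (CommRingCat.ofHom (algebraMap R F)) ≫ z = y) :
    ∃ (N : Over S) (e : (Over.pullback (S.fromSpecStalk (genericPoint S))).obj N ≅ J),
      Smooth N.hom ∧ IsSeparated N.hom ∧ QuasiCompact N.hom ∧
      ∀ Y : Over S, Smooth Y.hom →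
        Function.Bijective (fun h : Y ⟶ N => (Over.pullback (S.fromSpecStalk (genericPoint S))).map h ≫ e.hom) := by
  obtain ⟨U0, l, G, hG, hg, hl, h1, h2, h3, e, -⟩ := K486.SpreadGrp.exists_spread_generic (S := S) J
  have hqc : QuasiCompact (G.hom ≫ U0.ι) := inferInstance
  have hsep : IsSeparated (G.hom ≫ U0.ι) := inferInstance
  have hsm : Smooth (G.hom ≫ U0.ι) := inferInstance
  have sq := isPullback_comp_mono G.hom U0.ι l hl
  let e1 : (Over.pullback (S.fromSpecStalk (genericPoint S))).obj (Over.mk (G.hom ≫ U0.ι)) ≅ Red.bc l G :=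
    Over.isoMk ((IsPullback.of_hasPullback (G.hom ≫ U0.ι) (S.fromSpecStalk (genericPoint S))).isoIsPullback _ _ sq)
      (IsPullback.isoIsPullback_hom_snd _ _ _ _)
  let e2 : (Over.pullback (S.fromSpecStalk (genericPoint S))).obj (Over.mk (G.hom ≫ U0.ι)) ≅ J := e1 ≪≫ e
  obtain ⟨U, hηU, hU⟩ := hPG G.left (G.hom ≫ U0.ι) (S.fromSpecStalk (genericPoint S)) rfl
    ((Over.forget _).mapIso e2) (Over.w e2.hom)
  exact exists_neron_of_local hdimS.le (W₀ := U ⊓ U0) ⟨hηU, hg⟩ (part_of_ext hreg hdimS G h1 h2 hqc e2 U hU)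
    fun s _ hs' => exists_localModel hreg hdimS hexc J D s fun h => hs' (h ▸ ⟨hηU, hg⟩)

end K131.Asm
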