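import Groth.Prelude.Def_CohB1
import Mathlib.RingTheory.DiscreteValuationRing.Basic
import Mathlib.RingTheory.FiniteType
import Mathlib.AlgebraicGeometry.AffineScheme

/-!
# Bounded sets of rational points (definitions)

`K` the fraction field of a valuation ring `R`, `a : X ⟶ Spec K`. A set `P` of `K`-points of `X` is bounded, `Bdd R a P`,
if there are finitely many affine opens `Spec (D i) ⟶ X` with finite families `x i` of generators of the `K`-algebras `D i`
such that every point of `P` lies in one of them and has coordinates in `R` there.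
-/

set_option autoImplicit false
universe u

open CategoryTheory CategoryTheory.Limits AlgebraicGeometry

namespace K131.Bdd

/-- Finitely many affine opens of `X` with coordinates. -/
structure Charts {K : Type u} [Field K] {X : Scheme.{u}} (a : X ⟶ Spec (CommRingCat.of K)) where
  n : ℕ
  D : Fin n → Type u
  [ring : ∀ i, CommRing (D i)]
  [alg : ∀ i, Algebra K (D i)]
  u : ∀ i, Spec (CommRingCat.of (D i)) ⟶ X
  m : Fin n → ℕ
  x : ∀ i, Fin (m i) → D i
  isOpenImmersion : ∀ i, IsOpenImmersion (u i)
  over : ∀ i, u i ≫ a = Spec.map (CommRingCat.ofHom (algebraMap K (D i)))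
  adjoin : ∀ i, Algebra.adjoin K (Set.range (x i)) = ⊤

attribute [instance] Charts.ring Charts.alg Charts.isOpenImmersion

variable {K : Type u} [Field K] {X : Scheme.{u}} {a : X ⟶ Spec (CommRingCat.of K)}

/-- The `K`-point `c` lies in the `i`-th affine open, with coordinates in `R`. -/
def Charts.In (R : Type u) [CommRing R] [Algebra R K] (Y : Charts a) (c : Spec (CommRingCat.of K) ⟶ X) : Prop :=
  ∃ (i : Fin Y.n) (δ : Y.D i →+* K), δ.comp (algebraMap K (Y.D i)) = RingHom.id K ∧
    (∀ l, δ (Y.x i l) ∈ Set.range (algebraMap R K)) ∧ Spec.map (CommRingCat.ofHom δ) ≫ Y.u i = c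

/-- The set `P` of `K`-points of `X` is bounded. -/
def Bdd (R : Type u) [CommRing R] [Algebra R K] (a : X ⟶ Spec (CommRingCat.of K))
    (P : (Spec (CommRingCat.of K) ⟶ X) → Prop) : Prop :=
  ∃ Y : Charts a, ∀ c : Spec (CommRingCat.of K) ⟶ X, c ≫ a = 𝟙 _ → P c → Y.In R c

variable {R : Type u} [CommRing R] [Algebra R K]

theorem Bdd.mono {P Q : (Spec (CommRingCat.of K) ⟶ X) → Prop} (h : Bdd R a Q) (hPQ : ∀ c, P c → Q c) : Bdd R a P := by
  obtain ⟨Y, hY⟩ := h
  exact ⟨Y, fun c hc hP => hY c hc (hPQ c hP)⟩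

end K131.Bdd
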