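import Groth.Agent.Neron.K131.BddImg
import Mathlib.AlgebraicGeometry.Pullbacks
import Mathlib.RingTheory.TensorProduct.Basic

/-!
# Bounded sets of rational points: calculus

* `exists_charts`: charts covering a quasi-compact scheme locally of finite type over `K`.
* `bdd_iff`, `Bdd.image`, `Bdd.or`.
* `Charts.bc`: base change of charts; `bdd_bc`, `bdd_of_bc`: extension and restriction of the field.
-/

set_option autoImplicit false
universe u

open CategoryTheory CategoryTheory.Limits AlgebraicGeometry TensorProduct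

namespace K131.BddCalc

open Bdd BddImg

section cover

variable {K : Type u} [Field K] {X : Scheme.{u}} (a : X ⟶ Spec (CommRingCat.of K))

/-- Charts covering `X`. -/
theorem exists_charts [LocallyOfFiniteType a] [CompactSpace X] :
    ∃ Y : Charts a, ∀ x : X, ∃ i, x ∈ Set.range (Y.u i) := by
  let 𝒰 := X.affineCover.finiteSubcover
  have hfin : Finite 𝒰.I₀ := inferInstance
  obtain ⟨n, ⟨e⟩⟩ := Finite.exists_equiv_fin 𝒰.I₀
  have haff : ∀ j, IsAffine (𝒰.X j) := fun j => inferInstance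
  let D : Fin n → Type u := fun i => Γ(𝒰.X (e.symm i), ⊤)
  let u : ∀ i, Spec (CommRingCat.of (D i)) ⟶ X := fun i => (𝒰.X (e.symm i)).isoSpec.inv ≫ 𝒰.f (e.symm i)
  have hu : ∀ i, IsOpenImmersion (u i) := fun i => by
    dsimp only [u]
    infer_instance
  let κ : ∀ i, CommRingCat.of K ⟶ CommRingCat.of (D i) := fun i => Spec.preimage (u i ≫ a)
  have hκ : ∀ i, Spec.map (κ i) = u i ≫ a := fun i => Spec.map_preimage _
  let alg : ∀ i, Algebra K (D i) := fun i => (κ i).hom.toAlgebra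
  have hft : ∀ i, Algebra.FiniteType K (D i) := by
    intro i
    have h1 : LocallyOfFiniteType (Spec.map (κ i)) := by
      rw [hκ]
      infer_instance
    rw [HasRingHomProperty.Spec_iff (P := @LocallyOfFiniteType)] at h1
    exact h1
  have hgen : ∀ i, ∃ (m : ℕ) (x : Fin m → D i), Algebra.adjoin K (Set.range x) = ⊤ := by
    intro i
    obtain ⟨s, hs⟩ := (hft i).out
    obtain ⟨m, ⟨f⟩⟩ := Finite.exists_equiv_fin s
    refine ⟨m, fun l => (f.symm l : D i), ?_⟩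
    rw [← hs]
    congr 1
    ext z
    constructor
    · rintro ⟨l, rfl⟩
      exact (f.symm l).2
    · intro hz
      exact ⟨f ⟨z, hz⟩, by simp⟩
  choose m x hx using hgen
  refine ⟨{ n := n, D := D, u := u, m := m, x := x, isOpenImmersion := hu, over := fun i => (hκ i).symm,
            adjoin := hx }, fun z => ?_⟩
  obtain ⟨j, y, hy⟩ := 𝒰.exists_eq z
  obtain ⟨i, rfl⟩ : ∃ i, e.symm i = j := ⟨e j, e.symm_apply_apply j⟩
  refine ⟨i, (𝒰.X (e.symm i)).isoSpec.hom y, ?_⟩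
  change ((𝒰.X (e.symm i)).isoSpec.inv ≫ 𝒰.f (e.symm i)) ((𝒰.X (e.symm i)).isoSpec.hom y) = z
  rw [← Scheme.Hom.comp_apply, Iso.hom_inv_id_assoc, hy]

end cover

section calculus

variable {R K : Type u} [CommRing R] [IsDomain R] [ValuationRing R] [Field K] [Algebra R K] [IsFractionRing R K]
  {π : R} (hπ : Unif K π)

include hπ in
theorem bdd_iff {X : Scheme.{u}} {a : X ⟶ Spec (CommRingCat.of K)} (Y : Charts a)
    (hY : ∀ x : X, ∃ i, x ∈ Set.range (Y.u i)) (P : (Spec (CommRingCat.of K) ⟶ X) → Prop) :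
    Bdd R a P ↔ ∃ M : ℕ, ∀ c, c ≫ a = 𝟙 _ → P c → InS Y π M c := by
  constructor
  · intro h
    obtain ⟨M, hM⟩ := exists_image hπ (𝟙 X) (Category.id_comp a) Y hY h
    exact ⟨M, fun c hc hP => by simpa using hM c hc hP⟩
  · rintro ⟨M, hM⟩
    exact bdd_of_inS hπ.ne_zero Y M hM

include hπ in
/-- The image of a bounded set is bounded. -/
theorem image {W X : Scheme.{u}} {b : W ⟶ Spec (CommRingCat.of K)} {a : X ⟶ Spec (CommRingCat.of K)}
    [LocallyOfFiniteType a] [CompactSpace X] (f : W ⟶ X) (hf : f ≫ a = b)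
    {P : (Spec (CommRingCat.of K) ⟶ W) → Prop} (hP : Bdd R b P) :
    Bdd R a (fun c => ∃ c', c' ≫ b = 𝟙 _ ∧ P c' ∧ c' ≫ f = c) := by
  obtain ⟨Y, hY⟩ := exists_charts a
  obtain ⟨M, hM⟩ := exists_image hπ f hf Y hY hP
  refine bdd_of_inS hπ.ne_zero Y M ?_
  rintro c - ⟨c', hc', hP', rfl⟩
  exact hM c' hc' hP'

include hπ in
/-- The union of two bounded sets is bounded. -/
theorem or {X : Scheme.{u}} {a : X ⟶ Spec (CommRingCat.of K)} [LocallyOfFiniteType a] [CompactSpace X]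
    {P Q : (Spec (CommRingCat.of K) ⟶ X) → Prop} (hP : Bdd R a P) (hQ : Bdd R a Q) :
    Bdd R a (fun c => P c ∨ Q c) := by
  obtain ⟨Y, hY⟩ := exists_charts a
  rw [bdd_iff hπ Y hY] at hP hQ ⊢
  obtain ⟨M, hM⟩ := hP
  obtain ⟨M', hM'⟩ := hQ
  refine ⟨M + M', fun c hc h => ?_⟩
  rcases h with h | h
  · exact (hM c hc h).mono (Nat.le_add_right _ _)
  · exact (hM' c hc h).mono (Nat.le_add_left _ _)

include hπ in
/-- A finite union of bounded sets is bounded. -/
theorem finite_union {X : Scheme.{u}} {a : X ⟶ Spec (CommRingCat.of K)} [LocallyOfFiniteType a] [CompactSpace X]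
    {ι : Type*} [Finite ι] {P : ι → (Spec (CommRingCat.of K) ⟶ X) → Prop} (hP : ∀ i, Bdd R a (P i)) :
    Bdd R a (fun c => ∃ i, P i c) := by
  have := Fintype.ofFinite ι
  obtain ⟨Y, hY⟩ := exists_charts a
  have h1 := fun i => (bdd_iff hπ Y hY (P i)).1 (hP i)
  choose M hM using h1
  rw [bdd_iff hπ Y hY]
  refine ⟨Finset.univ.sup M, fun c hc => ?_⟩
  rintro ⟨i, h⟩
  exact (hM i c hc h).mono (Finset.le_sup (Finset.mem_univ i))

end calculus

section bc

variable {K K₁ : Type u} [Field K] [Field K₁] [Algebra K K₁] {X X₁ : Scheme.{u}} {a : X ⟶ Spec (CommRingCat.of K)}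
  {a₁ : X₁ ⟶ Spec (CommRingCat.of K₁)} {p : X₁ ⟶ X}
  (h : IsPullback p a₁ a (Spec.map (CommRingCat.ofHom (algebraMap K K₁))))

/-- The base change of an affine open. -/
noncomputable def bcU {D : Type u} [CommRing D] [Algebra K D] (u : Spec (CommRingCat.of D) ⟶ X)
    (hu : u ≫ a = Spec.map (CommRingCat.ofHom (algebraMap K D))) :
    Spec (CommRingCat.of (K₁ ⊗[K] D)) ⟶ X₁ :=
  h.lift (Spec.map (CommRingCat.ofHom (Algebra.TensorProduct.includeRight : D →ₐ[K] K₁ ⊗[K] D).toRingHom) ≫ u)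
    (Spec.map (CommRingCat.ofHom (algebraMap K₁ (K₁ ⊗[K] D)))) (by
      rw [Category.assoc, hu, ← Spec.map_comp, ← Spec.map_comp, ← CommRingCat.ofHom_comp, ← CommRingCat.ofHom_comp]
      congr 2
      ext z
      change (1 : K₁) ⊗ₜ[K] (algebraMap K D z) = (algebraMap K K₁ z) ⊗ₜ[K] (1 : D)
      rw [Algebra.algebraMap_eq_smul_one, Algebra.algebraMap_eq_smul_one, TensorProduct.smul_tmul])

theorem isPullback_bcU {D : Type u} [CommRing D] [Algebra K D] (u : Spec (CommRingCat.of D) ⟶ X)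
    (hu : u ≫ a = Spec.map (CommRingCat.ofHom (algebraMap K D))) :
    IsPullback (bcU h u hu) (Spec.map (CommRingCat.ofHom
      (Algebra.TensorProduct.includeRight : D →ₐ[K] K₁ ⊗[K] D).toRingHom)) p u := by
  have h1 : IsPullback (Spec.map (CommRingCat.ofHom (algebraMap K₁ (K₁ ⊗[K] D))))
      (Spec.map (CommRingCat.ofHom (Algebra.TensorProduct.includeRight : D →ₐ[K] K₁ ⊗[K] D).toRingHom))
      (Spec.map (CommRingCat.ofHom (algebraMap K K₁))) (Spec.map (CommRingCat.ofHom (algebraMap K D))) :=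
    isPullback_SpecMap_of_isPushout _ _ _ _ (CommRingCat.isPushout_tensorProduct K K₁ D)
  refine IsPullback.of_right (h₁₂ := a₁) (h₂₂ := a) (v₁₃ := Spec.map (CommRingCat.ofHom (algebraMap K K₁))) ?_ ?_ h.flip
  · rw [hu]
    have : bcU h u hu ≫ a₁ = Spec.map (CommRingCat.ofHom (algebraMap K₁ (K₁ ⊗[K] D))) := h.lift_snd _ _ _
    rw [this]
    exact h1
  · exact h.lift_fst _ _ _

theorem adjoin_bc {D : Type u} [CommRing D] [Algebra K D] {m : ℕ} (x : Fin m → D)
    (hx : Algebra.adjoin K (Set.range x) = ⊤) :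
    Algebra.adjoin K₁ (Set.range fun l => (1 : K₁) ⊗ₜ[K] x l) = ⊤ := by
  have h1 := Algebra.TensorProduct.adjoin_one_tmul_image_eq_top (A := K₁) (Set.range x) hx
  rw [← h1, ← Set.range_comp]
  rfl

/-- Base change of charts. -/
noncomputable def bc (Y : Charts a) : Charts a₁ where
  n := Y.n
  D := fun i => K₁ ⊗[K] Y.D i
  u := fun i => bcU h (Y.u i) (Y.over i)
  m := Y.m
  x := fun i l => (1 : K₁) ⊗ₜ[K] Y.x i l
  isOpenImmersion := fun i => MorphismProperty.of_isPullback (isPullback_bcU h (Y.u i) (Y.over i)).flip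
    (Y.isOpenImmersion i)
  over := fun _ => h.lift_snd _ _ _
  adjoin := fun i => adjoin_bc (Y.x i) (Y.adjoin i)

section points

variable {R R₁ : Type u} [CommRing R] [CommRing R₁] [Algebra R K] [Algebra R₁ K₁]

theorem bcU_comp {D : Type u} [CommRing D] [Algebra K D] (u : Spec (CommRingCat.of D) ⟶ X)
    (hu : u ≫ a = Spec.map (CommRingCat.ofHom (algebraMap K D))) :
    bcU h u hu ≫ p = Spec.map (CommRingCat.ofHom
      (Algebra.TensorProduct.includeRight : D →ₐ[K] K₁ ⊗[K] D).toRingHom) ≫ u := h.lift_fst _ _ _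

/-- The base change of a point of an affine open. -/
theorem exists_pt {D : Type u} [CommRing D] [Algebra K D] (u : Spec (CommRingCat.of D) ⟶ X)
    (hu : u ≫ a = Spec.map (CommRingCat.ofHom (algebraMap K D))) (δ : D →+* K)
    (hδ : δ.comp (algebraMap K D) = RingHom.id K) (c₁ : Spec (CommRingCat.of K₁) ⟶ X₁) (hc₁ : c₁ ≫ a₁ = 𝟙 _)
    (hc : c₁ ≫ p = Spec.map (CommRingCat.ofHom (algebraMap K K₁)) ≫ Spec.map (CommRingCat.ofHom δ) ≫ u) :
    ∃ δ₁ : (K₁ ⊗[K] D) →+* K₁, δ₁.comp (algebraMap K₁ (K₁ ⊗[K] D)) = RingHom.id K₁ ∧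
      (∀ d, δ₁ (1 ⊗ₜ[K] d) = algebraMap K K₁ (δ d)) ∧ Spec.map (CommRingCat.ofHom δ₁) ≫ bcU h u hu = c₁ := by
  let δa : D →ₐ[K] K := { δ with commutes' := fun z => congr($hδ z) }
  let δ₁ : K₁ ⊗[K] D →ₐ[K₁] K₁ :=
    Algebra.TensorProduct.lift (AlgHom.id K₁ K₁) ((Algebra.ofId K K₁).comp δa) (fun _ _ => mul_comm _ _)
  have h1 : ∀ d, δ₁ (1 ⊗ₜ[K] d) = algebraMap K K₁ (δ d) := by
    intro d
    rw [Algebra.TensorProduct.lift_tmul, map_one, one_mul]
    rfl
  refine ⟨δ₁.toRingHom, RingHom.ext fun z => δ₁.commutes z, h1, ?_⟩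
  apply h.hom_ext
  · rw [Category.assoc, bcU_comp, hc, ← Category.assoc, ← Category.assoc, ← Spec.map_comp, ← Spec.map_comp,
      ← CommRingCat.ofHom_comp, ← CommRingCat.ofHom_comp]
    congr 3
    ext d
    exact h1 d
  · have h2 : bcU h u hu ≫ a₁ = Spec.map (CommRingCat.ofHom (algebraMap K₁ (K₁ ⊗[K] D))) := h.lift_snd _ _ _
    rw [Category.assoc, h2, hc₁, ← Spec.map_comp, ← CommRingCat.ofHom_comp]
    have h3 : δ₁.toRingHom.comp (algebraMap K₁ (K₁ ⊗[K] D)) = RingHom.id K₁ := RingHom.ext fun z => δ₁.commutes z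
    rw [h3]
    exact Spec.map_id _

include h in
/-- Base change of a bounded set. -/
theorem bdd_bc (hR : ∀ r : R, algebraMap K K₁ (algebraMap R K r) ∈ Set.range (algebraMap R₁ K₁))
    {P : (Spec (CommRingCat.of K) ⟶ X) → Prop} (hP : Bdd R a P) :
    Bdd R₁ a₁ (fun c₁ => ∃ c, c ≫ a = 𝟙 _ ∧ P c ∧
      c₁ ≫ p = Spec.map (CommRingCat.ofHom (algebraMap K K₁)) ≫ c) := by
  obtain ⟨Y, hY⟩ := hP
  refine ⟨bc h Y, ?_⟩
  rintro c₁ hc₁ ⟨c, hc, hPc, hcc⟩
  obtain ⟨i, δ, hδ, hint, rfl⟩ := hY c hc hPc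
  obtain ⟨δ₁, h1, h2, h3⟩ := exists_pt h (Y.u i) (Y.over i) δ hδ c₁ hc₁ hcc
  refine ⟨i, δ₁, h1, fun l => ?_, h3⟩
  change δ₁ (1 ⊗ₜ[K] Y.x i l) ∈ _
  rw [h2]
  obtain ⟨r, hr⟩ := hint l
  rw [← hr]
  exact hR r

include h in
/-- **Boundedness can be checked after an extension of the field.** -/
theorem bdd_of_bc [IsDomain R₁] [ValuationRing R₁] [IsFractionRing R₁ K₁] {π : R} {π₁ : R₁} (hπ₁ : Unif K₁ π₁)
    (hπ0 : algebraMap R K π ≠ 0) (hππ : algebraMap R₁ K₁ π₁ = algebraMap K K₁ (algebraMap R K π))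
    (hR : ∀ z : K, algebraMap K K₁ z ∈ Set.range (algebraMap R₁ K₁) → z ∈ Set.range (algebraMap R K))
    [LocallyOfFiniteType a] [CompactSpace X] {P₁ : (Spec (CommRingCat.of K₁) ⟶ X₁) → Prop} (hP₁ : Bdd R₁ a₁ P₁) :
    Bdd R a (fun c => ∃ c₁, c₁ ≫ a₁ = 𝟙 _ ∧ P₁ c₁ ∧
      c₁ ≫ p = Spec.map (CommRingCat.ofHom (algebraMap K K₁)) ≫ c) := by
  obtain ⟨Y, hY⟩ := exists_charts a
  have hY₁ : ∀ x : X₁, ∃ i, x ∈ Set.range ((bc h Y).u i) := by
    intro x
    obtain ⟨i, y, hy⟩ := hY (p x)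
    refine ⟨i, ?_⟩
    obtain ⟨w, hw, -⟩ := Scheme.exists_preimage_of_isPullback (isPullback_bcU h (Y.u i) (Y.over i)) x y hy.symm
    exact ⟨w, hw⟩
  obtain ⟨M, hM⟩ := exists_image hπ₁ (𝟙 X₁) (Category.id_comp a₁) (bc h Y) hY₁ hP₁
  refine bdd_of_inS hπ0 Y M ?_
  rintro c hc ⟨c₁, hc₁, hP, hcc⟩
  obtain ⟨i, δ₁, h1, hint, h2⟩ := hM c₁ hc₁ hP
  rw [Category.comp_id] at h2
  -- `c` lies in the chart
  have h3 : Spec.map (CommRingCat.ofHom (algebraMap K K₁)) ≫ c =
      (Spec.map (CommRingCat.ofHom δ₁) ≫ Spec.map (CommRingCat.ofHom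
        (Algebra.TensorProduct.includeRight : Y.D i →ₐ[K] K₁ ⊗[K] Y.D i).toRingHom)) ≫ Y.u i := by
    rw [← hcc, ← h2, Category.assoc, Category.assoc]
    congr 1
    exact bcU_comp h (Y.u i) (Y.over i)
  have hop : IsOpenImmersion (Y.u i) := Y.isOpenImmersion i
  have hrange : Set.range c ⊆ Set.range (Y.u i) := by
    rintro _ ⟨t, rfl⟩
    have ht : t = Spec.map (CommRingCat.ofHom (algebraMap K K₁)) (IsLocalRing.closedPoint K₁) :=
      Subsingleton.elim (α := PrimeSpectrum K) _ _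
    rw [ht, ← Scheme.Hom.comp_apply, h3, Scheme.Hom.comp_apply]
    exact ⟨_, rfl⟩
  let w := IsOpenImmersion.lift (Y.u i) c hrange
  have hw : w ≫ Y.u i = c := IsOpenImmersion.lift_fac _ _ _
  let δ : Y.D i →+* K := (Spec.preimage w).hom
  have hδ : Spec.map (CommRingCat.ofHom δ) = w := by
    rw [CommRingCat.ofHom_hom, Spec.map_preimage]
  refine ⟨i, δ, ?_, fun l => ?_, by rw [hδ, hw]⟩
  · have h5 : Spec.map (CommRingCat.ofHom (δ.comp (algebraMap K (Y.D i)))) = Spec.map (𝟙 (CommRingCat.of K)) := by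
      rw [CommRingCat.ofHom_comp, Spec.map_comp, hδ, ← Y.over, ← Category.assoc, hw, hc]
      exact (Spec.map_id _).symm
    exact congrArg CommRingCat.Hom.hom (Spec.map_injective h5)
  · have h6 : (algebraMap K K₁).comp δ =
        δ₁.comp (Algebra.TensorProduct.includeRight : Y.D i →ₐ[K] K₁ ⊗[K] Y.D i).toRingHom := by
      have h7 : Spec.map (CommRingCat.ofHom ((algebraMap K K₁).comp δ)) =
          Spec.map (CommRingCat.ofHom
            (δ₁.comp (Algebra.TensorProduct.includeRight : Y.D i →ₐ[K] K₁ ⊗[K] Y.D i).toRingHom)) := by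
        rw [← cancel_mono (Y.u i), CommRingCat.ofHom_comp, CommRingCat.ofHom_comp, Spec.map_comp, Spec.map_comp, ← h3,
          Category.assoc, hδ, hw]
      exact congrArg CommRingCat.Hom.hom (Spec.map_injective h7)
    apply hR
    have h8 := hint l
    have h9 : δ₁ ((bc h Y).x i l) = algebraMap K K₁ (δ (Y.x i l)) := congr($h6 (Y.x i l)).symm
    rw [h9, map_pow, hππ, ← map_pow, ← map_mul, ← map_pow] at h8
    exact h8

end points

end bc


end K131.BddCalc
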