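import Groth.Agent.Neron.K131.Bdd
import Mathlib.AlgebraicGeometry.Morphisms.FiniteType
import Mathlib.RingTheory.Valuation.ValuationRing
import Mathlib.RingTheory.Localization.Away.Basic

/-!
# Bounded sets of rational points: change of charts, images

`R` a valuation ring with fraction field `K`, `π` a non-unit of `R` with `K = R[1/π]`.
* `Charts.InS` : the point `c` lies in a chart with coordinates `x`, `π ^ M x` in `R`.
* `exists_image`: for a morphism `f : W ⟶ X`, a bounded set `P` of points of `W` and charts `Y` covering `X`, there is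
  one `M` with `c ≫ f` in `Y`, up to `π ^ M`, for all `c` in `P`.
-/

set_option autoImplicit false
universe u

open CategoryTheory CategoryTheory.Limits AlgebraicGeometry

namespace K131.BddImg

open Bdd

section adjoin

variable {R K : Type u} [CommRing R] [Field K] [Algebra R K]

/-- All elements of `K` are integral up to a power of the non-unit `π`. -/
structure Unif (K : Type u) [Field K] [Algebra R K] (π : R) : Prop where
  ne_zero : algebraMap R K π ≠ 0
  not_isUnit : ¬ IsUnit π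
  exists_pow : ∀ z : K, ∃ N : ℕ, algebraMap R K (π ^ N) * z ∈ Set.range (algebraMap R K)

variable {π : R} (hπ : Unif K π)

include hπ in
/-- Elements of an algebra generated by `x` are integral polynomials in `x` up to a power of `π`. -/
theorem exists_pow {D : Type u} [CommRing D] [Algebra K D] {m : ℕ} {x : Fin m → D}
    (hx : Algebra.adjoin K (Set.range x) = ⊤) (d : D) : ∃ N : ℕ, ∀ δ : D →+* K,
      δ.comp (algebraMap K D) = RingHom.id K → (∀ l, δ (x l) ∈ Set.range (algebraMap R K)) →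
      ∀ n, N ≤ n → algebraMap R K (π ^ n) * δ d ∈ Set.range (algebraMap R K) := by
  have key : ∀ d ∈ Algebra.adjoin K (Set.range x), ∃ N : ℕ, ∀ δ : D →+* K,
      δ.comp (algebraMap K D) = RingHom.id K → (∀ l, δ (x l) ∈ Set.range (algebraMap R K)) →
      algebraMap R K (π ^ N) * δ d ∈ (algebraMap R K).range := by
    intro d hd
    induction hd using Algebra.adjoin_induction with
    | mem d hd =>
      obtain ⟨l, rfl⟩ := hd
      refine ⟨0, fun δ _ h => ?_⟩
      rw [pow_zero, map_one, one_mul]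
      exact h l
    | algebraMap z =>
      obtain ⟨N, hN⟩ := hπ.exists_pow z
      refine ⟨N, fun δ hδ _ => ?_⟩
      have : δ (algebraMap K D z) = z := congr($hδ z)
      rw [this]
      exact hN
    | add a b _ _ ha hb =>
      obtain ⟨N, hN⟩ := ha
      obtain ⟨N', hN'⟩ := hb
      refine ⟨N + N', fun δ hδ h => ?_⟩
      have h1 : algebraMap R K (π ^ (N + N')) * δ (a + b) =
          algebraMap R K (π ^ N') * (algebraMap R K (π ^ N) * δ a) +
          algebraMap R K (π ^ N) * (algebraMap R K (π ^ N') * δ b) := by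
        rw [pow_add, map_mul, map_add]; ring
      rw [h1]
      exact Subring.add_mem _ (Subring.mul_mem _ ⟨_, rfl⟩ (hN δ hδ h)) (Subring.mul_mem _ ⟨_, rfl⟩ (hN' δ hδ h))
    | mul a b _ _ ha hb =>
      obtain ⟨N, hN⟩ := ha
      obtain ⟨N', hN'⟩ := hb
      refine ⟨N + N', fun δ hδ h => ?_⟩
      have h1 : algebraMap R K (π ^ (N + N')) * δ (a * b) =
          (algebraMap R K (π ^ N) * δ a) * (algebraMap R K (π ^ N') * δ b) := by
        rw [pow_add, map_mul, map_mul]; ring
      rw [h1]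
      exact Subring.mul_mem _ (hN δ hδ h) (hN' δ hδ h)
  obtain ⟨N, hN⟩ := key d (by rw [hx]; trivial)
  refine ⟨N, fun δ hδ h n hn => ?_⟩
  obtain ⟨k, rfl⟩ := Nat.exists_eq_add_of_le hn
  have h1 : algebraMap R K (π ^ (N + k)) * δ d = algebraMap R K (π ^ k) * (algebraMap R K (π ^ N) * δ d) := by
    rw [pow_add, map_mul]; ring
  rw [h1]
  exact Subring.mul_mem (algebraMap R K).range ⟨_, rfl⟩ (hN δ hδ h)

end adjoin

section charts

variable {K : Type u} [Field K] {X : Scheme.{u}} {a : X ⟶ Spec (CommRingCat.of K)}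

/-- The `K`-point `c` lies in a chart, with coordinates in `π ^ (-M) R`. -/
def InS {R : Type u} [CommRing R] [Algebra R K] (Y : Charts a) (π : R) (M : ℕ)
    (c : Spec (CommRingCat.of K) ⟶ X) : Prop :=
  ∃ (i : Fin Y.n) (δ : Y.D i →+* K), δ.comp (algebraMap K (Y.D i)) = RingHom.id K ∧
    (∀ l, algebraMap R K (π ^ M) * δ (Y.x i l) ∈ Set.range (algebraMap R K)) ∧
    Spec.map (CommRingCat.ofHom δ) ≫ Y.u i = c

variable {R : Type u} [CommRing R] [Algebra R K]

theorem InS.mono {Y : Charts a} {π : R} {M M' : ℕ} (h : M ≤ M') {c : Spec (CommRingCat.of K) ⟶ X}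
    (hc : InS Y π M c) : InS Y π M' c := by
  obtain ⟨i, δ, h1, h2, h3⟩ := hc
  refine ⟨i, δ, h1, fun l => ?_, h3⟩
  obtain ⟨k, rfl⟩ := Nat.exists_eq_add_of_le h
  have e : algebraMap R K (π ^ (M + k)) * δ (Y.x i l) =
      algebraMap R K (π ^ k) * (algebraMap R K (π ^ M) * δ (Y.x i l)) := by
    rw [pow_add, map_mul]; ring
  rw [e]
  exact Subring.mul_mem (algebraMap R K).range ⟨_, rfl⟩ (h2 l)

/-- Charts with rescaled coordinates. -/
noncomputable def scale (Y : Charts a) (z : K) (hz : z ≠ 0) : Charts a where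
  n := Y.n
  D := Y.D
  u := Y.u
  m := Y.m
  x := fun i l => algebraMap K (Y.D i) z * Y.x i l
  isOpenImmersion := Y.isOpenImmersion
  over := Y.over
  adjoin := fun i => by
    rw [eq_top_iff, ← Y.adjoin i, Algebra.adjoin_le_iff]
    rintro _ ⟨l, rfl⟩
    have h1 : Y.x i l = algebraMap K (Y.D i) z⁻¹ * (algebraMap K (Y.D i) z * Y.x i l) := by
      rw [← mul_assoc, ← map_mul, inv_mul_cancel₀ hz, map_one, one_mul]
    rw [h1]
    exact Subalgebra.mul_mem _ (Subalgebra.algebraMap_mem _ _) (Algebra.subset_adjoin ⟨l, rfl⟩)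

theorem bdd_of_inS {π : R} (hπ0 : algebraMap R K π ≠ 0) (Y : Charts a) (M : ℕ)
    {P : (Spec (CommRingCat.of K) ⟶ X) → Prop} (h : ∀ c, c ≫ a = 𝟙 _ → P c → InS Y π M c) : Bdd R a P := by
  refine ⟨scale Y (algebraMap R K (π ^ M)) (by rw [map_pow]; exact pow_ne_zero _ hπ0), fun c hc hP => ?_⟩
  obtain ⟨i, δ, h1, h2, h3⟩ := h c hc hP
  refine ⟨i, δ, h1, fun l => ?_, h3⟩
  change δ (algebraMap K (Y.D i) _ * Y.x i l) ∈ _
  rw [map_mul]
  have h4 : δ (algebraMap K (Y.D i) (algebraMap R K (π ^ M))) = algebraMap R K (π ^ M) := congr($h1 _)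
  rw [h4]
  exact h2 l

end charts

section image

variable {R K : Type u} [CommRing R] [IsDomain R] [ValuationRing R] [Field K] [Algebra R K] [IsFractionRing R K]
  {π : R} (hπ : Unif K π)

omit [IsDomain R] [ValuationRing R] [IsFractionRing R K] in
theorem exists_open_cover {X : Scheme.{u}} {a : X ⟶ Spec (CommRingCat.of K)} (Y : Charts a)
    (hY : ∀ x : X, ∃ i, x ∈ Set.range (Y.u i)) {D : Type u} [CommRing D] (g : Spec (CommRingCat.of D) ⟶ X) :
    ∃ (t : Finset (Spec (CommRingCat.of D))) (s : Spec (CommRingCat.of D) → D)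
      (i : Spec (CommRingCat.of D) → Fin Y.n) (c : Spec (CommRingCat.of D) → D),
      (∑ p ∈ t, c p * s p = 1) ∧
      ∀ p, Set.range (Spec.map (CommRingCat.ofHom (algebraMap D (Localization.Away (s p)))) ≫ g) ⊆
        Set.range (Y.u (i p)) := by
  have h1 : ∀ p : Spec (CommRingCat.of D), ∃ (i : Fin Y.n) (s : D), s ∉ p.asIdeal ∧
      (PrimeSpectrum.basicOpen s : Set (PrimeSpectrum D)) ⊆ g ⁻¹' Set.range (Y.u i) := by
    intro p
    obtain ⟨i, hi⟩ := hY (g p)
    have hopen : IsOpen (g ⁻¹' Set.range (Y.u i)) :=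
      (Y.u i).isOpenEmbedding.isOpen_range.preimage g.continuous
    obtain ⟨_, ⟨s, rfl⟩, hs, hs'⟩ := PrimeSpectrum.isTopologicalBasis_basic_opens.exists_subset_of_mem_open
      (show p ∈ g ⁻¹' Set.range (Y.u i) from hi) hopen
    exact ⟨i, s, hs, hs'⟩
  choose i s hs hs' using h1
  have h2 : Ideal.span (Set.range s) = ⊤ := by
    by_contra hne
    obtain ⟨m, hm, hle⟩ := Ideal.exists_le_maximal _ hne
    have hp := hm.isPrime
    exact hs ⟨m, hp⟩ (hle (Ideal.subset_span ⟨⟨m, hp⟩, rfl⟩))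
  rw [Ideal.eq_top_iff_one, Finsupp.mem_ideal_span_range_iff_exists_finsupp] at h2
  obtain ⟨c, hc⟩ := h2
  refine ⟨c.support, s, i, c, hc, fun p => ?_⟩
  rintro _ ⟨q, rfl⟩
  rw [Scheme.Hom.comp_apply]
  refine hs' p ?_
  have h3 : Set.range (PrimeSpectrum.comap (algebraMap D (Localization.Away (s p)))) =
      PrimeSpectrum.basicOpen (s p) := PrimeSpectrum.localization_away_comap_range _ _
  rw [← h3]
  exact ⟨q, rfl⟩

include hπ in
theorem exists_image_chart {W X : Scheme.{u}} {b : W ⟶ Spec (CommRingCat.of K)} {a : X ⟶ Spec (CommRingCat.of K)}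
    (f : W ⟶ X) (hf : f ≫ a = b) (Y : Charts a) (hY : ∀ x : X, ∃ i, x ∈ Set.range (Y.u i))
    {D : Type u} [CommRing D] [Algebra K D] {m : ℕ} {x : Fin m → D} (hx : Algebra.adjoin K (Set.range x) = ⊤)
    (u : Spec (CommRingCat.of D) ⟶ W) (hu : u ≫ b = Spec.map (CommRingCat.ofHom (algebraMap K D))) :
    ∃ M : ℕ, ∀ δ : D →+* K, δ.comp (algebraMap K D) = RingHom.id K →
      (∀ l, δ (x l) ∈ Set.range (algebraMap R K)) →
      InS Y π M (Spec.map (CommRingCat.ofHom δ) ≫ u ≫ f) := by
  classical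
  obtain ⟨t, s, i, c, hsum, hr⟩ := exists_open_cover Y hY (u ≫ f)
  have hopen : ∀ p, IsOpenImmersion (Y.u (i p)) := fun p => Y.isOpenImmersion (i p)
  let ψ : ∀ p, Spec (CommRingCat.of (Localization.Away (s p))) ⟶ Spec (CommRingCat.of (Y.D (i p))) := fun p =>
    IsOpenImmersion.lift (Y.u (i p)) _ (hr p)
  have hψ : ∀ p, ψ p ≫ Y.u (i p) = Spec.map (CommRingCat.ofHom (algebraMap D (Localization.Away (s p)))) ≫ u ≫ f :=
    fun p => IsOpenImmersion.lift_fac _ _ _
  let θ : ∀ p, Y.D (i p) →+* Localization.Away (s p) := fun p => (Spec.preimage (ψ p)).hom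
  have hθ : ∀ p, Spec.map (CommRingCat.ofHom (θ p)) = ψ p := fun p => by
    change Spec.map (CommRingCat.ofHom (Spec.preimage (ψ p)).hom) = _
    rw [CommRingCat.ofHom_hom, Spec.map_preimage]
  have hθK : ∀ p, (θ p).comp (algebraMap K (Y.D (i p))) =
      (algebraMap D (Localization.Away (s p))).comp (algebraMap K D) := by
    intro p
    have h5 : Spec.map (CommRingCat.ofHom ((θ p).comp (algebraMap K (Y.D (i p))))) =
        Spec.map (CommRingCat.ofHom ((algebraMap D (Localization.Away (s p))).comp (algebraMap K D))) := by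
      have e1 : Spec.map (CommRingCat.ofHom ((θ p).comp (algebraMap K (Y.D (i p))))) = ψ p ≫ Y.u (i p) ≫ a := by
        rw [CommRingCat.ofHom_comp, Spec.map_comp, hθ, Y.over]
      have e2 : Spec.map (CommRingCat.ofHom ((algebraMap D (Localization.Away (s p))).comp (algebraMap K D))) =
          Spec.map (CommRingCat.ofHom (algebraMap D (Localization.Away (s p)))) ≫ u ≫ b := by
        rw [CommRingCat.ofHom_comp, Spec.map_comp, hu]
      rw [e1, e2, ← Category.assoc, hψ, Category.assoc, Category.assoc, hf]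
    exact congrArg CommRingCat.Hom.hom (Spec.map_injective h5)
  -- the numerators and the exponents
  have hnum : ∀ p (l : Fin (Y.m (i p))), ∃ (e : ℕ) (d : D),
      θ p (Y.x (i p) l) * algebraMap D (Localization.Away (s p)) (s p) ^ e =
        algebraMap D (Localization.Away (s p)) d := by
    intro p l
    obtain ⟨⟨d, ⟨_, e, rfl⟩⟩, hd⟩ := IsLocalization.surj (Submonoid.powers (s p)) (θ p (Y.x (i p) l))
    exact ⟨e, d, by simpa using hd⟩
  choose e d hd using hnum
  -- the bounds
  have hb1 := fun p => exists_pow hπ hx (c p)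
  choose N1 hN1 using hb1
  have hb2 := fun p (l : Fin (Y.m (i p))) => exists_pow hπ hx (d p l)
  choose N2 hN2 using hb2
  let N : ℕ := t.sup N1
  let M : ℕ := t.sup fun p => Finset.univ.sup fun l => N2 p l + (N + 1) * e p l
  refine ⟨M, fun δ hδ hint => ?_⟩
  -- one of the `δ (s p)` is not too small
  obtain ⟨p, hpt, hp⟩ : ∃ p ∈ t, ¬ ∃ r : R, δ (s p) = algebraMap R K (π ^ (N + 1) * r) := by
    by_contra hcon
    push Not at hcon
    have h1 : ∃ r : R, δ 1 = algebraMap R K (π * r) := by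
      rw [← hsum, map_sum]
      have h2 : ∀ p ∈ t, ∃ r : R, δ (c p * s p) = algebraMap R K (π * r) := by
        intro p hp
        obtain ⟨r, hr⟩ := hcon p hp
        obtain ⟨r', hr'⟩ := hN1 p δ hδ hint N (Finset.le_sup hp)
        refine ⟨r' * r, ?_⟩
        rw [map_mul, hr, pow_succ, map_mul, map_mul, map_mul, map_mul, hr']
        ring
      choose! r hr using h2
      refine ⟨∑ p ∈ t, r p, ?_⟩
      rw [Finset.sum_congr rfl hr, Finset.mul_sum, map_sum]
    obtain ⟨r, hr⟩ := h1
    rw [map_one] at hr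
    apply hπ.not_isUnit
    refine IsUnit.of_mul_eq_one r ?_
    apply IsFractionRing.injective R K
    rw [← hr, map_one]
  have hs0 : δ (s p) ≠ 0 := fun h0 => hp ⟨0, by rw [h0, mul_zero, map_zero]⟩
  have hπN : algebraMap R K (π ^ (N + 1)) ≠ 0 := by rw [map_pow]; exact pow_ne_zero _ hπ.ne_zero
  have hinv : ∃ r : R, algebraMap R K (π ^ (N + 1)) * (δ (s p))⁻¹ = algebraMap R K r := by
    rcases ValuationRing.isInteger_or_isInteger R (δ (s p) * (algebraMap R K (π ^ (N + 1)))⁻¹) with ⟨r, hr⟩ | ⟨r, hr⟩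
    · exact absurd ⟨r, by rw [map_mul, hr]; field_simp⟩ hp
    · refine ⟨r, ?_⟩
      rw [hr, mul_inv, inv_inv, mul_comm]
  obtain ⟨r, hr⟩ := hinv
  -- the extension of `δ`
  have hunit : IsUnit (δ (s p)) := hs0.isUnit
  let δ' : Localization.Away (s p) →+* K := IsLocalization.Away.lift (s p) hunit
  have hδ' : ∀ z, δ' (algebraMap D _ z) = δ z := fun z => IsLocalization.Away.lift_eq (s p) hunit z
  refine ⟨i p, δ'.comp (θ p), ?_, fun l => ?_, ?_⟩
  · rw [RingHom.comp_assoc, hθK p, ← RingHom.comp_assoc]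
    have h1 : δ'.comp (algebraMap D (Localization.Away (s p))) = δ := RingHom.ext hδ'
    rw [h1, hδ]
  · have h1 := congrArg δ' (hd p l)
    rw [map_mul, map_pow, hδ', hδ'] at h1
    have h2 : δ' (θ p (Y.x (i p) l)) = δ (d p l) * (δ (s p))⁻¹ ^ (e p l) := by
      rw [← h1, mul_assoc, ← mul_pow, mul_inv_cancel₀ hs0, one_pow, mul_one]
    rw [RingHom.comp_apply, h2]
    have hM : N2 p l + (N + 1) * e p l ≤ M :=
      (Finset.le_sup (f := fun l => N2 p l + (N + 1) * e p l) (Finset.mem_univ l)).trans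
        (Finset.le_sup (f := fun p => Finset.univ.sup fun l => N2 p l + (N + 1) * e p l) hpt)
    obtain ⟨k, hk⟩ := Nat.exists_eq_add_of_le hM
    obtain ⟨r', hr'⟩ := hN2 p l δ hδ hint _ le_rfl
    refine ⟨π ^ k * r' * r ^ (e p l), ?_⟩
    rw [hk]
    simp only [map_mul, map_pow, hr'] at hr ⊢
    rw [← hr]
    ring
  · rw [CommRingCat.ofHom_comp, Spec.map_comp, hθ, Category.assoc, hψ, ← Category.assoc, ← Spec.map_comp,
      ← CommRingCat.ofHom_comp]
    have h1 : δ'.comp (algebraMap D (Localization.Away (s p))) = δ := RingHom.ext hδ'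
    rw [h1]

include hπ in
/-- **Images of bounded sets**, with a uniform bound with respect to given charts. -/
theorem exists_image {W X : Scheme.{u}} {b : W ⟶ Spec (CommRingCat.of K)} {a : X ⟶ Spec (CommRingCat.of K)}
    (f : W ⟶ X) (hf : f ≫ a = b) (Y : Charts a) (hY : ∀ x : X, ∃ i, x ∈ Set.range (Y.u i))
    {P : (Spec (CommRingCat.of K) ⟶ W) → Prop} (hP : Bdd R b P) :
    ∃ M : ℕ, ∀ c, c ≫ b = 𝟙 _ → P c → InS Y π M (c ≫ f) := by
  obtain ⟨Z, hZ⟩ := hP
  have h1 := fun j => exists_image_chart hπ f hf Y hY (Z.adjoin j) (Z.u j) (Z.over j)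
  choose M hM using h1
  refine ⟨Finset.univ.sup M, fun c hc hPc => ?_⟩
  obtain ⟨j, δ, hδ, hint, rfl⟩ := hZ c hc hPc
  rw [Category.assoc]
  exact (hM j δ hδ hint).mono (Finset.le_sup (Finset.mem_univ j))

end image

end K131.BddImg
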