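import Groth.Agent.Neron.K131.BddImg

/-!
# Uniformizers of discrete valuation rings
-/

set_option autoImplicit false
universe u

namespace K131.UnifDvr

open BddImg

/-- A non-zero non-unit of a discrete valuation ring `R` satisfies `Unif K`. -/
theorem unif {R K : Type u} [CommRing R] [IsDomain R] [IsDiscreteValuationRing R] [Field K] [Algebra R K]
    [IsFractionRing R K] {π : R} (h0 : π ≠ 0) (h1 : ¬ IsUnit π) : Unif K π := by
  refine ⟨(map_ne_zero_iff _ (IsFractionRing.injective R K)).2 h0, h1, fun z => ?_⟩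
  obtain ⟨a, b, hb, rfl⟩ := IsFractionRing.div_surjective (A := R) z
  have hb0 : b ≠ 0 := nonZeroDivisors.ne_zero hb
  obtain ⟨ϖ, hϖ⟩ := IsDiscreteValuationRing.exists_irreducible R
  obtain ⟨n, u, hn⟩ := IsDiscreteValuationRing.eq_unit_mul_pow_irreducible hb0 hϖ
  have h2 : ϖ ∣ π := by
    rw [← Ideal.mem_span_singleton, ← hϖ.maximalIdeal_eq]
    exact (IsLocalRing.mem_maximalIdeal π).2 h1
  obtain ⟨c, hc⟩ := pow_dvd_pow_of_dvd h2 n
  refine ⟨n, c * a * ↑u⁻¹, ?_⟩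
  have hbK : algebraMap R K b ≠ 0 := (map_ne_zero_iff _ (IsFractionRing.injective R K)).2 hb0
  rw [mul_div_assoc', eq_div_iff hbK, ← map_mul, ← map_mul, hc, hn]
  congr 1
  have : (↑u⁻¹ : R) * ↑u = 1 := u.inv_mul
  calc c * a * ↑u⁻¹ * (↑u * ϖ ^ n) = c * a * ϖ ^ n * ((↑u⁻¹ : R) * ↑u) := by ring
    _ = ϖ ^ n * c * a := by rw [this]; ring

end K131.UnifDvr
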