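import Groth.Agent.Neron.K131.BddCalc
import Groth.Agent.Neron.K131.UnifDvr
import Groth.Agent.Neron.K696.BddProj
import Groth.Agent.CohqB.ProjBC

/-!
# Boundedness from a projective scheme over a smaller field

`L → F` a field extension, `F` the fraction field of the excellent henselian discrete valuation ring `R₁`, `Z` projective
over `L` and `W` an open of `Z` containing all `F`-points of `Z`, `h : W ⟶ X` a morphism over `Spec L ⟶ Spec K`. Then the
set of the `F`-points of `X₁ = X ×_K F` which come from `F`-points of `W` is bounded.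
-/

set_option autoImplicit false
universe u

open CategoryTheory CategoryTheory.Limits AlgebraicGeometry

namespace K131.BddProjBC

open Bdd BddImg CohB1 Groth.Agent.CohqB.ProjBC

theorem bdd_of_proj_bc {R₁ K L F : Type u} [CommRing R₁] [IsDomain R₁] [IsDiscreteValuationRing R₁]
    [HenselianLocalRing R₁] (hex : EGA4.IsExcellent R₁) [Field K] [Field L] [Field F] [Algebra R₁ F]
    [IsFractionRing R₁ F] [Algebra K L] [Algebra L F] [Algebra K F] [IsScalarTower K L F]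
    {n : ℕ} {Z : Scheme.{u}} (j : Z ⟶ ProjSpace n L) [IsClosedImmersion j] (W : Z.Opens)
    (hW : ∀ c : Spec (CommRingCat.of F) ⟶ Z, c ≫ j ≫ ProjSpace.toSpec n L =
      Spec.map (CommRingCat.ofHom (algebraMap L F)) → Set.range c ⊆ (W : Set Z))
    {X X₁ : Scheme.{u}} (a : X ⟶ Spec (CommRingCat.of K)) [LocallyOfFiniteType a] [CompactSpace X]
    {a₁ : X₁ ⟶ Spec (CommRingCat.of F)} {p : X₁ ⟶ X}
    (hX : IsPullback p a₁ a (Spec.map (CommRingCat.ofHom (algebraMap K F))))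
    (h : W.toScheme ⟶ X) (hh : h ≫ a = (W.ι ≫ j ≫ ProjSpace.toSpec n L) ≫
      Spec.map (CommRingCat.ofHom (algebraMap K L))) :
    Bdd R₁ a₁ (fun c₁ => ∃ c : Spec (CommRingCat.of F) ⟶ W.toScheme,
      c ≫ W.ι ≫ j ≫ ProjSpace.toSpec n L = Spec.map (CommRingCat.ofHom (algebraMap L F)) ∧ c ≫ h = c₁ ≫ p) := by
  let φ : L →+* F := algebraMap L F
  have hP : IsPullback (pmap φ n) (ProjSpace.toSpec n F) (ProjSpace.toSpec n L) (Spec.map (CommRingCat.ofHom φ)) :=
    isPullback_pmap φ n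
  let ZF := pullback j (pmap φ n)
  let q : ZF ⟶ Z := pullback.fst j (pmap φ n)
  let jF : ZF ⟶ ProjSpace n F := pullback.snd j (pmap φ n)
  have hjF : IsClosedImmersion jF := inferInstance
  have hZ : IsPullback q (jF ≫ ProjSpace.toSpec n F) (j ≫ ProjSpace.toSpec n L) (Spec.map (CommRingCat.ofHom φ)) :=
    (IsPullback.of_hasPullback j (pmap φ n)).flip.paste_horiz hP.flip |>.flip
  let WF : ZF.Opens := q ⁻¹ᵁ W
  have h1 := K696.BddProj.bdd_of_proj hex jF WF (fun c hc => by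
    rintro _ ⟨t, rfl⟩
    have h2 : (c ≫ q) ≫ j ≫ ProjSpace.toSpec n L = Spec.map (CommRingCat.ofHom (algebraMap L F)) := by
      rw [Category.assoc, hZ.w, ← Category.assoc c, hc, Category.id_comp]
    exact hW (c ≫ q) h2 ⟨t, rfl⟩)
  have hq : (q ∣_ W) ≫ W.ι = WF.ι ≫ q := morphismRestrict_ι q W
  have hcomp : Spec.map (CommRingCat.ofHom (algebraMap L F)) ≫ Spec.map (CommRingCat.ofHom (algebraMap K L)) =
      Spec.map (CommRingCat.ofHom (algebraMap K F)) := by
    rw [← Spec.map_comp, ← CommRingCat.ofHom_comp, ← IsScalarTower.algebraMap_eq]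
  have hw : ((q ∣_ W) ≫ h) ≫ a = (WF.ι ≫ jF ≫ ProjSpace.toSpec n F) ≫
      Spec.map (CommRingCat.ofHom (algebraMap K F)) := by
    have e := hZ.w
    simp only [Category.assoc] at e
    rw [Category.assoc, hh]
    simp only [Category.assoc]
    rw [reassoc_of% hq, reassoc_of% e, ← hcomp]
  let hF : WF.toScheme ⟶ X₁ := hX.lift ((q ∣_ W) ≫ h) (WF.ι ≫ jF ≫ ProjSpace.toSpec n F) hw
  have hF1 : hF ≫ p = (q ∣_ W) ≫ h := hX.lift_fst _ _ hw
  have hF2 : hF ≫ a₁ = WF.ι ≫ jF ≫ ProjSpace.toSpec n F := hX.lift_snd _ _ hw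
  obtain ⟨π, hπ⟩ := IsDiscreteValuationRing.exists_irreducible R₁
  have hU : Unif F π := UnifDvr.unif hπ.ne_zero hπ.not_isUnit
  have hlft : LocallyOfFiniteType a₁ := MorphismProperty.of_isPullback hX inferInstance
  have hqc : CompactSpace X₁ := by
    have h2 : QuasiCompact p := MorphismProperty.of_isPullback hX.flip inferInstance
    exact QuasiCompact.compactSpace_of_compactSpace p
  obtain ⟨Y, hY⟩ := BddCalc.image hU hF hF2 h1
  refine ⟨Y, fun c₁ hc₁ hP => hY c₁ hc₁ ?_⟩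
  obtain ⟨c, hc, hch⟩ := hP
  -- the point of `WF`
  have hw1 : (c ≫ W.ι) ≫ j ≫ ProjSpace.toSpec n L = 𝟙 _ ≫ Spec.map (CommRingCat.ofHom φ) := by
    rw [Category.assoc, hc, Category.id_comp]
  let cZ : Spec (CommRingCat.of F) ⟶ ZF := hZ.lift (c ≫ W.ι) (𝟙 _) hw1
  have hcZ1 : cZ ≫ q = c ≫ W.ι := hZ.lift_fst _ _ hw1
  have hcZ2 : cZ ≫ jF ≫ ProjSpace.toSpec n F = 𝟙 _ := hZ.lift_snd _ _ hw1
  have hsq : IsPullback (q ∣_ W) WF.ι W.ι q := isPullback_morphismRestrict q W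
  let cW : Spec (CommRingCat.of F) ⟶ WF.toScheme := hsq.lift c cZ hcZ1.symm
  have hcW1 : cW ≫ (q ∣_ W) = c := hsq.lift_fst _ _ _
  have hcW2 : cW ≫ WF.ι = cZ := hsq.lift_snd _ _ _
  refine ⟨cW, ?_, trivial, ?_⟩
  · rw [reassoc_of% hcW2, hcZ2]
  · apply hX.hom_ext
    · rw [Category.assoc, hF1, reassoc_of% hcW1, hch]
    · rw [Category.assoc, hF2, reassoc_of% hcW2, hcZ2, hc₁]

end K131.BddProjBC
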