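import Mathlib.FieldTheory.IsAlgClosed.AlgebraicClosure
import Mathlib.FieldTheory.SeparableClosure
import Mathlib.FieldTheory.IntermediateField.Adjoin.Algebra

/-!
# A compositum of a finite separable extension with an arbitrary extension
-/

set_option autoImplicit false
universe u

namespace K131.Compos

open IntermediateField

theorem exists_compositum (K L K' : Type u) [Field K] [Field L] [Field K'] [Algebra K L] [Algebra K K']
    [Module.Finite K L] [Algebra.IsSeparable K L] :
    ∃ (F : Type u) (_ : Field F) (_ : Algebra K F) (_ : Algebra L F) (_ : Algebra K' F),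
      IsScalarTower K L F ∧ IsScalarTower K K' F ∧ Module.Finite K' F ∧ Algebra.IsSeparable K' F := by
  let Ω := AlgebraicClosure K'
  let f : L →ₐ[K] Ω := IsAlgClosed.lift
  let b := Module.finBasis K L
  let S : Set Ω := Set.range fun i => f (b i)
  have hsep : ∀ x : L, IsSeparable K' (f x) := fun x => by
    have h1 : IsSeparable K (f x) := (Algebra.IsSeparable.isSeparable K x).map f f.injective
    exact h1.tower_top K'
  let E : IntermediateField K' Ω := adjoin K' S
  have hfE : ∀ x : L, f x ∈ E := by
    intro x
    rw [← b.sum_repr x, map_sum]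
    refine sum_mem fun i _ => ?_
    rw [map_smul, Algebra.smul_def, IsScalarTower.algebraMap_apply K K' Ω]
    exact mul_mem (E.algebraMap_mem _) (subset_adjoin K' S ⟨i, rfl⟩)
  let g : L →+* E := (f : L →+* Ω).codRestrict E.toSubfield.toSubring hfE
  let algL : Algebra L E := g.toAlgebra
  have hS : Finite S := Set.finite_range _
  have hfin : FiniteDimensional K' E := finiteDimensional_adjoin fun x hx => by
    obtain ⟨i, rfl⟩ := hx
    exact (hsep _).isIntegral
  refine ⟨E, inferInstance, inferInstance, algL, inferInstance, ?_, inferInstance, hfin, ?_⟩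
  · refine IsScalarTower.of_algebraMap_eq fun x => Subtype.ext ?_
    change _ = f (algebraMap K L x)
    rw [AlgHom.commutes]
    rfl
  · rw [isSeparable_adjoin_iff_isSeparable]
    rintro _ ⟨i, rfl⟩
    exact hsep _

end K131.Compos
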