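import Groth.Agent.Sga7.H750.NeronFinal
import Groth.Agent.Sga7.H736.QC1
import Groth.Agent.Sga7.H244.N3
import Groth.Agent.Sga7.H132.Piece
import Groth.Agent.Neron.K131.BddCalc

/-!
# Néron models over strictly henselian discrete valuation rings: the non-proper case

* `exists_model`: the model attached to a minimal chart, for a smooth separated geometrically irreducible commutative
  group scheme of finite type (the argument of `Groth.Agent.Sga7.H750.NeronExist`, where the generic fibre is proper).
* `isNeron_of_bijective`: the Néron property from the bijectivity on sections.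
-/

set_option autoImplicit false
universe u v

open CategoryTheory CategoryTheory.Limits AlgebraicGeometry MonoidalCategory CartesianMonoidalCategory
open scoped MonObj

namespace K131.ExistSH

open Groth.Agent.Sga7.H750
open Groth.Agent Groth.Agent.Sga7
open GenOv LocVal FibGen GenLaw LocLaw LawOps NeronGrp NeronQC Conv Groth.Agent.Dix.GenFibre NeronExist
open Groth.Agent.Sga7.H244.Charts (Chart IsMinimal gen)
open Groth.Agent.Picfga.OverRep (res)

section model

variable {R : Type u} [CommRing R] [IsDomain R] [IsDiscreteValuationRing R]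

local notation "𝒮" => Over (Spec (CommRingCat.of R))
local notation "𝒦" => Over (Spec (CommRingCat.of (FractionRing R)))
local notation "F" => Neron.genericFibre R

variable {A : Over (Spec (CommRingCat.of (FractionRing R)))} [GrpObj A]

variable {I : Type v} {Y : I → Chart R (FractionRing R) A} {C : Chart R (FractionRing R) A} {ζ : C.X}

theorem exists_model [IsCommMonObj A] [Smooth A.hom] [IsSeparated A.hom] [QuasiCompact A.hom]
    [GeometricallyIrreducible A.hom] (hR : EtCoh.IsStrictlyHenselianLocalRing R) (h : IsMinimal Y C ζ) (hfin : HasFin C ζ) :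
    ∃ (N : Over (Spec (CommRingCat.of R))) (_ : GrpObj N) (e : (Neron.genericFibre R).obj N ≅ A),
      IsMonHom e.hom ∧ Smooth N.hom ∧ IsSeparated N.hom ∧ QuasiCompact N.hom ∧
      Function.Bijective (fun g : 𝟙_ (Over (Spec (CommRingCat.of R))) ⟶ N => (Neron.genericFibre R).map g) := by
  -- the chart
  let X₀ : 𝒮 := Over.mk C.x
  let ξ₀ : (F).obj X₀ ⟶ A := chartMap C
  have hsm : Smooth X₀.hom := h.smooth
  have hsm' : Smooth C.x := h.smooth
  have haff : IsAffine C.X := h.affine
  have hCs : IsSeparated C.x := inferInstance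
  have hφ := h.openImmersion
  have hirr : GeometricallyIrreducible C.x := geomIrred C hφ ⟨ζ, h.over⟩ h.geomIrred
  have hirr₀ : GeometricallyIrreducible X₀.hom := hirr
  have hξ₀ : IsOpenImmersion ξ₀.left := isOpenImmersion_chartMap C hφ
  obtain ⟨L₀, hL₀⟩ := exists_law h
  obtain ⟨V, L, hL, x, hxV, hx⟩ := exists_isStrict L₀ hL₀
  let X : 𝒮 := Over.mk (V.ι ≫ X₀.hom)
  let i : X ⟶ X₀ := res X₀ V
  have hi : IsOpenImmersion i.left := inferInstanceAs (IsOpenImmersion V.ι)
  let ξ : (F).obj X ⟶ A := (F).map i ≫ ξ₀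
  have hξ : IsOpenImmersion ξ.left := isOpenImmersion_comp _ _ (isOpenImmersion_map_left i) hξ₀
  have hX1 : Smooth X.hom := inferInstanceAs (Smooth (V.ι ≫ C.x))
  have hX2 : IsSeparated X.hom := inferInstanceAs (IsSeparated (V.ι ≫ C.x))
  have hnoeth : IsLocallyNoetherian C.X := LocallyOfFiniteType.isLocallyNoetherian C.x
  have hnoeth' : IsNoetherian C.X := { }
  have hX3 : QuasiCompact X.hom := by
    have h1 : CompactSpace V.toScheme := by
      have hn : TopologicalSpace.NoetherianSpace X₀.left := inferInstanceAs (TopologicalSpace.NoetherianSpace C.X)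
      have : IsCompact (V : Set X₀.left) := TopologicalSpace.NoetherianSpace.isCompact _
      exact isCompact_iff_compactSpace.1 this
    have h2 : CompactSpace X.left := h1
    exact (quasiCompact_iff_compactSpace (f := X.hom)).2 h2
  have hXs : ∃ y, X.hom y = IsLocalRing.closedPoint R := ⟨⟨x, hxV⟩, hx⟩
  have hX4 : GeometricallyIrreducible X.hom := by
    have : Surjective (V.ι ≫ C.x) := surjective_of_flat (V.ι ≫ C.x) hXs
    exact inferInstanceAs (GeometricallyIrreducible (V.ι ≫ C.x))
  -- the gluing
  let LD : H524.Law.LawData R A :=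
    { T := X
      X := X
      U := X
      D := L.D
      ξT := ξ
      ξX := ξ
      ξU := ξ
      pT := L.p₁
      pX := L.p₂
      m := L.p₃
      smooth_T := hX1
      openT := hξ
      open₁ := L.o₁₂
      open₂ := L.o₁₃
      open₃ := L.o₃₂
      law := L.eq
      surj := fun x hx => hL.s₂ x hx
      irred := fun κ _ t _ => by
        have h1 : GeometricallyIrreducible (pullback.snd X.hom t) := inferInstance
        have h2 : IrreducibleSpace ↥(pullback X.hom t) :=
          GeometricallyIrreducible.irreducibleSpace_of_subsingleton (pullback.snd X.hom t)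
        exact h2.toPreirreducibleSpace }
  have : Smooth LD.X.hom := hX1
  have : IsSeparated LD.X.hom := hX2
  have : IsOpenImmersion LD.ξX.left := hξ
  obtain ⟨N, e, j, hN1, hN2, hj, hje, hcov⟩ := H524.N5.exists_glued LD hR
  have hje' : ∀ a, (F).map (j a) ≫ e.hom = ξ ≫ T a := fun a => by
    rw [comp_T, hje a, mul_comm]
    rfl
  have hN : IsTransCov ξ e :=
    { ex := fun c => ⟨j c, hj c, hje' c⟩
      covers := fun n hn => by
        obtain ⟨a, x, hx⟩ := hcov n hn
        exact ⟨a, j a, x, hj a, hje' a, hx⟩ }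
  obtain ⟨G, hG⟩ := exists_grpObj_N L hL hR hN
  -- quasi-compactness
  have hNq : QuasiCompact N.hom := by
    obtain ⟨n, c, hc⟩ := hfin
    have hA : CompactSpace A.left := (quasiCompact_iff_compactSpace (f := A.hom)).1 inferInstance
    have hζV : ζ ∈ V := (h.generic x hx).mem_open V.isOpen hxV
    have hfgp : (⟨ζ, hζV⟩ : V.toScheme) = fgp X.hom (IsLocalRing.closedPoint R) := by
      apply eq_fgp (f := X.hom)
      · exact h.over
      · rintro O hO ⟨o, ho, ho'⟩
        have h1 : ζ ⤳ V.ι o := h.generic _ ho'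
        have h2 : V.ι ⟨ζ, hζV⟩ ⤳ V.ι o := h1
        have h3 : (⟨ζ, hζV⟩ : V.toScheme) ⤳ o := V.ι.isOpenEmbedding.isInducing.specializes_iff.1 h2
        exact h3.mem_open hO ho
    have h5 := compactSpace_N L hL hR hN c (fun c' => by
      obtain ⟨k, hk⟩ := hc c'
      refine ⟨k, ?_⟩
      unfold TransAt
      rw [← hfgp]
      refine ⟨⟨ζ, hζV⟩, ?_⟩
      have h6 : Val ξ₀ (ξ₀ ≫ T (c' * (c k)⁻¹)) (i.left ⟨ζ, hζV⟩) ζ := hk
      have h7 := h6.comp i
      have h8 := h7.liftOpen (ξ' := ξ) i hi rfl ⟨ζ, hζV⟩ rfl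
      rw [← Category.assoc] at h8
      exact h8)
    exact (quasiCompact_iff_compactSpace (f := N.hom)).2 h5
  obtain ⟨a, -⟩ : ∃ a : 𝟙_ (Over (Spec (CommRingCat.of R))) ⟶ X, True := by
    obtain ⟨a, -⟩ := GenLaw.exists_section_mem (Y := 𝟙_ (Over (Spec (CommRingCat.of R)))) (X := X) hR
      (IsLocalRing.closedPoint R) rfl Set.univ isOpen_univ trivial
    exact ⟨a, trivial⟩
  refine ⟨N, G, e, hG, hN1, hN2, hNq, ?_, ?_⟩
  · intro g g' hgg
    have : Flat (𝟙_ (Over (Spec (CommRingCat.of R)))).hom := inferInstanceAs (Flat (𝟙 _))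
    exact Dix.GenExtUniq.ext_of_genericFibre hgg
  · intro b
    obtain ⟨s, hs⟩ := exists_section hN a (unitι ≫ b ≫ e.hom)
    refine ⟨s, ?_⟩
    rw [← cancel_mono e.hom]
    change (F).map s ≫ e.hom = _
    rw [hs, cst, ← Category.assoc, ← Category.assoc]
    congr 1
    have : toUnit _ ≫ unitι = 𝟙 ((F).obj (𝟙_ 𝒮)) := toGenUnit_ext _ _
    rw [this, Category.id_comp]

end model

section criterion

open Groth.Agent.S3250 Groth.Agent.Dix.GenOpen Groth.Agent.Dix.NeronCore

variable {R : Type u} [CommRing R] [IsDomain R] [IsDiscreteValuationRing R]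

/-- **The Néron property from the bijectivity on sections** (strictly henselian base, no properness). -/
theorem isNeron_of_bijective (hR : EtCoh.IsStrictlyHenselianLocalRing R)
    (N : Over (Spec (CommRingCat.of R))) [GrpObj N] [Smooth N.hom] [IsSeparated N.hom] [QuasiCompact N.hom]
    (hbij : Function.Surjective (fun g : Over.mk (𝟙 (Spec (CommRingCat.of R))) ⟶ N =>
      (Neron.genericFibre R).map g)) : SGA7.IsNeron R (FractionRing R) N := by
  have hN := exists_point N hbij
  refine ⟨inferInstance, inferInstance, inferInstance, fun Y hY => ?_⟩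
  have : GrpObj (Over.mk N.hom) := inferInstanceAs (GrpObj N)
  obtain ⟨e, e', he, he', hee⟩ := exists_compare Y
  constructor
  · intro g g' hgg
    have h1 : (Neron.genericFibre R).map g = (Neron.genericFibre R).map g' := hgg
    apply Over.OverMorphism.ext
    refine ext_of_genOpen Y.hom N.hom g.left g'.left (Over.w g) (Over.w g') ?_
    rw [← he, Category.assoc, Category.assoc, ← map_left_fst g, ← map_left_fst g', h1]
  · intro v
    let f₀ := e ≫ v.left ≫ pullback.fst N.hom (Neron.genPt R)
    have hv : v.left ≫ pullback.snd N.hom (Neron.genPt R) = pullback.snd Y.hom (Neron.genPt R) :=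
      Over.w v
    have hf₀ : f₀ ≫ N.hom = (Y.hom ⁻¹ᵁ genOpen R).ι ≫ Y.hom := by
      change (e ≫ v.left ≫ pullback.fst N.hom (Neron.genPt R)) ≫ N.hom = _
      rw [Category.assoc, Category.assoc, pullback.condition, ← he, Category.assoc,
        pullback.condition, ← hv, Category.assoc]
    obtain ⟨g, hg1, hg2⟩ := exists_extension hR N.hom hN Y.hom f₀ hf₀
    refine ⟨Over.homMk g hg1, ?_⟩
    change (Neron.genericFibre R).map (Over.homMk g hg1) = v
    apply Over.OverMorphism.ext
    apply pullback.hom_ext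
    · rw [map_left_fst]
      change pullback.fst Y.hom (Neron.genPt R) ≫ g = _
      rw [← he', Category.assoc, hg2]
      change e' ≫ e ≫ v.left ≫ pullback.fst N.hom (Neron.genPt R) = _
      rw [← Category.assoc, hee, Category.id_comp]
    · rw [hv]
      exact Over.w ((Neron.genericFibre R).map (Over.homMk g hg1))

end criterion

section charts

open Groth.Agent.Sga7.H132 K131.Bdd

/-- **N1 for bounded groups**: smooth affine charts from boundedness. -/
theorem exists_charts {R K : Type u} [CommRing R] [IsDomain R] [IsDiscreteValuationRing R] [Field K] [Algebra R K]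
    [IsFractionRing R K] (A : Over (Spec (CommRingCat.of K))) [Smooth A.hom]
    (hb : Bdd.Bdd R A.hom (fun _ => True)) :
    ∃ (I : Type) (_ : Finite I) (Y : I → Chart R K A), (∀ i, Smooth (Y i).x) ∧ (∀ i, IsAffine (Y i).X) ∧
      (∀ i, IsOpenImmersion (Y i).φ) ∧
      ∀ c : 𝟙_ (Over (Spec (CommRingCat.of K))) ⟶ A, ∃ (i : I)
        (t : Spec (CommRingCat.of R) ⟶ (Y i).X) (_ : t ≫ (Y i).x = 𝟙 _)
        (h : (gen R K ≫ t) ≫ (Y i).x = (𝟙_ (Over (Spec (CommRingCat.of K)))).hom ≫ gen R K),
        (Y i).pt (gen R K ≫ t) h = c := by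
  obtain ⟨Z, hZ⟩ := hb
  have hfs : ∀ i, Algebra.FormallySmooth K (Z.D i) := by
    intro i
    have h1 : Smooth (Spec.map (CommRingCat.ofHom (algebraMap K (Z.D i)))) := by
      rw [← Z.over i]
      infer_instance
    rw [HasRingHomProperty.Spec_iff (P := @Smooth)] at h1
    have h2 : Algebra.Smooth K (Z.D i) := RingHom.smooth_algebraMap.mp h1
    exact h2.formallySmooth
  have key2 := fun i : Fin Z.n =>
    Piece.exists_charts_piece (R := R) (A := A) (Z.x i) (Z.adjoin i) (hfs i) (Z.u i) (Z.over i)
  choose N Y h1 h2 h3 h4 using key2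
  refine ⟨Σ i : Fin Z.n, Fin (N i), inferInstance, fun s => Y s.1 s.2, fun s => h1 _ _, fun s => h2 _ _,
    fun s => h3 _ _, ?_⟩
  intro c
  have hc : c.left ≫ A.hom = 𝟙 _ := Over.w c
  obtain ⟨i, δ, hδ, hint, hδc⟩ := hZ c.left hc trivial
  obtain ⟨s, t, ht, h, hpt⟩ := h4 i δ hδ hint
  refine ⟨⟨i, s⟩, t, ht, h, ?_⟩
  ext1
  rw [hpt]
  exact hδc

end charts

section exist

open Groth.Agent.Sga7.H244 (exists_isMinimal)

/-- Existence of the Néron model for the standard fraction field. -/
theorem exists_neron_fractionRing {R : Type u} [CommRing R] [IsDomain R] [IsDiscreteValuationRing R]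
    [HenselianLocalRing R] [IsSepClosed (IsLocalRing.ResidueField R)]
    (A : Over (Spec (CommRingCat.of (FractionRing R)))) [GrpObj A] [IsCommMonObj A] [Smooth A.hom]
    [IsSeparated A.hom] [QuasiCompact A.hom] [GeometricallyIrreducible A.hom]
    (hb : K131.Bdd.Bdd R A.hom (fun _ => True)) :
    ∃ (N : Over (Spec (CommRingCat.of R))) (_ : GrpObj N) (e : (SGA7.genFib R (FractionRing R)).obj N ≅ A),
      IsMonHom e.hom ∧ SGA7.IsNeron R (FractionRing R) N := by
  have hR : EtCoh.IsStrictlyHenselianLocalRing R := ⟨inferInstance, inferInstance⟩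
  obtain ⟨I, hI, Y, hs, ha, ho, hc⟩ := exists_charts A hb
  obtain ⟨C, ζ, hm⟩ := exists_isMinimal Y hs ha ho hc
  have hfin : HasFin C ζ := Groth.Agent.Sga7.H736.QC1.qc1 hm
    (fun i => by
      have := ha i
      infer_instance)
    (fun i => by
      have := hs i
      infer_instance)
  obtain ⟨N, G, e, he, h1, h2, h3, h4⟩ := exists_model hR hm hfin
  exact ⟨N, G, e, he, isNeron_of_bijective hR N h4.2⟩

open NeronFinal Groth.Agent.Sga3B.BcIso

/-- Boundedness does not depend on the fraction field. -/
theorem bdd_fractionRing {R K : Type u} [CommRing R] [IsDomain R] [Field K] [Algebra R K] [IsFractionRing R K]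
    (A : Over (Spec (CommRingCat.of K))) (hb : K131.Bdd.Bdd R A.hom (fun _ => True)) :
    K131.Bdd.Bdd R (Red.bc (specIso (R := R) K).inv A).hom (fun _ => True) := by
  let alg : Algebra K (FractionRing R) := ((FractionRing.algEquiv R K).symm.toRingEquiv.toRingHom).toAlgebra
  have ht : (specIso (R := R) K).inv = Spec.map (CommRingCat.ofHom (algebraMap K (FractionRing R))) := rfl
  have hsq : IsPullback (pullback.fst A.hom (specIso (R := R) K).inv) (Red.bc (specIso (R := R) K).inv A).hom A.hom
      (Spec.map (CommRingCat.ofHom (algebraMap K (FractionRing R)))) := IsPullback.of_hasPullback _ _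
  have h1 := BddCalc.bdd_bc (R₁ := R) hsq (fun r => ⟨r, by
    change _ = (FractionRing.algEquiv R K).symm (algebraMap R K r)
    rw [AlgEquiv.commutes]⟩) hb
  obtain ⟨Y, hY⟩ := h1
  refine ⟨Y, fun c₁ hc₁ _ => hY c₁ hc₁ ⟨(specIso (R := R) K).hom ≫ c₁ ≫
    pullback.fst A.hom (specIso (R := R) K).inv, ?_, trivial, ?_⟩⟩
  · rw [Category.assoc, Category.assoc, pullback.condition]
    have h2 : c₁ ≫ pullback.snd A.hom (specIso (R := R) K).inv = 𝟙 _ := hc₁
    rw [reassoc_of% h2, Iso.hom_inv_id]
  · rw [← ht, Iso.inv_hom_id_assoc]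

/-- **Existence of the Néron model of a smooth geometrically irreducible commutative group scheme of finite type with
bounded set of rational points over a strictly henselian discrete valuation ring.** -/
theorem exists_neron {R K : Type u} [CommRing R] [IsDomain R] [IsDiscreteValuationRing R]
    [HenselianLocalRing R] [IsSepClosed (IsLocalRing.ResidueField R)] [Field K] [Algebra R K] [IsFractionRing R K]
    (A : Over (Spec (CommRingCat.of K))) [GrpObj A] [IsCommMonObj A] [Smooth A.hom]
    [IsSeparated A.hom] [QuasiCompact A.hom] [GeometricallyIrreducible A.hom]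
    (hb : K131.Bdd.Bdd R A.hom (fun _ => True)) :
    ∃ (N : Over (Spec (CommRingCat.of R))) (_ : GrpObj N) (e : (SGA7.genFib R K).obj N ≅ A),
      IsMonHom e.hom ∧ SGA7.IsNeron R K N := by
  let s := (specIso (R := R) K).hom
  let t := (specIso (R := R) K).inv
  let A₀ := Red.bc t A
  have : Smooth A₀.hom := inferInstanceAs (Smooth (pullback.snd A.hom t))
  have : IsSeparated A₀.hom := inferInstanceAs (IsSeparated (pullback.snd A.hom t))
  have : QuasiCompact A₀.hom := inferInstanceAs (QuasiCompact (pullback.snd A.hom t))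
  have : GeometricallyIrreducible A₀.hom := inferInstanceAs (GeometricallyIrreducible (pullback.snd A.hom t))
  obtain ⟨N, G, e, he, hN⟩ := exists_neron_fractionRing A₀ (bdd_fractionRing A hb)
  have e1 : Grp.mk (Red.bc (Neron.genPt R) N) ≅ Grp.mk A₀ := Grp.mkIso' e
  have e2 : Grp.mk (Red.bc s A₀) ≅ Grp.mk A :=
    (bcCompIso s t A).symm ≪≫ bcCongrIso (Iso.hom_inv_id _) A ≪≫ bcIdIso A
  have e3 : Grp.mk (Red.bc (Spec.map (CommRingCat.ofHom (algebraMap R K))) N) ≅ Grp.mk A :=
    bcCongrIso (specIso_hom_comp K).symm N ≪≫ bcCompIso s (Neron.genPt R) N ≪≫ bcMapIso s e1 ≪≫ e2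
  refine ⟨N, G, (Grp.forget _).mapIso e3, inferInstanceAs (IsMonHom e3.hom.hom.hom), ?_⟩
  obtain ⟨h1, h2, h3, h4⟩ := hN
  refine ⟨h1, h2, h3, fun Y hY => ?_⟩
  have h5 : (Over.pullback s).IsEquivalence :=
    (Over.mapPullbackAdj s).isEquivalence_right_of_isEquivalence_left
  have h6 := h4 Y hY
  have h7 : Function.Bijective (fun g : Y ⟶ N => (Over.pullback (s ≫ Neron.genPt R)).map g) := by
    have h8 : (fun g : Y ⟶ N => (Over.pullback (s ≫ Neron.genPt R)).map g) =
        (((Over.pullbackComp s (Neron.genPt R)).app Y).symm.homCongr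
          ((Over.pullbackComp s (Neron.genPt R)).app N).symm) ∘
        (fun g => (Over.pullback s).map g) ∘ (fun g : Y ⟶ N => (Over.pullback (Neron.genPt R)).map g) := by
      funext g
      exact (NatIso.naturality_2 (Over.pullbackComp s (Neron.genPt R)) g).symm
    rw [h8]
    exact (Equiv.bijective _).comp (Function.Bijective.comp
      ⟨(Over.pullback s).map_injective, (Over.pullback s).map_surjective⟩ h6)
  have h9 : s ≫ Neron.genPt R = Spec.map (CommRingCat.ofHom (algebraMap R K)) := specIso_hom_comp K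
  rw [h9] at h7
  exact h7

end exist

end K131.ExistSH
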