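import Groth.Agent.Neron.K131.SpreadIso
import Groth.Agent.CurvesC.Dim1Top
import Groth.Agent.FlatA.GlueTwo
import Mathlib.AlgebraicGeometry.Morphisms.Smooth
import Mathlib.AlgebraicGeometry.Noetherian

/-!
# Gluing two schemes over a base of dimension one

`glue_step`: `N` and `M` smooth separated quasi-compact over an integral Noetherian scheme `S` of dimension one with
isomorphic generic fibres, `W` an open of `S` containing the generic point, `s` a point outside `W`. There is a scheme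
`N'` over `S` which is `N` over `W` and `M` over an open neighbourhood `V` of `s` with `V ∖ {s} ⊆ W`.
-/

set_option autoImplicit false
universe u

open CategoryTheory CategoryTheory.Limits AlgebraicGeometry TopologicalSpace

namespace K131.GlueStep

theorem isPullback_comp_mono {C : Type*} [Category C] {P X Y Z W : C} {p : P ⟶ X} {q : P ⟶ Y}
    {a : X ⟶ Z} {b : Y ⟶ Z} (h : IsPullback p q a b) (i : Z ⟶ W) [Mono i] : IsPullback p q (a ≫ i) (b ≫ i) := by
  refine ⟨⟨by rw [← Category.assoc, h.w, Category.assoc]⟩, ⟨PullbackCone.IsLimit.mk _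
    (fun s => h.lift s.fst s.snd (by rw [← cancel_mono i, Category.assoc, Category.assoc, s.condition])) ?_ ?_ ?_⟩⟩
  · intro s
    exact h.lift_fst _ _ _
  · intro s
    exact h.lift_snd _ _ _
  · intro s m h1 h2
    apply h.hom_ext
    · rw [h1, h.lift_fst]
    · rw [h2, h.lift_snd]

theorem glue_step {S : Scheme.{u}} [IsIntegral S] [IsNoetherian S] (hdim : topologicalKrullDim S ≤ 1)
    (N M : Over S) [Smooth N.hom] [IsSeparated N.hom] [QuasiCompact N.hom] [Smooth M.hom] [IsSeparated M.hom]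
    [QuasiCompact M.hom] (W V₁ : S.Opens) (hW : genericPoint S ∈ W) (s : S) (hsV : s ∈ V₁) (hsW : s ∉ W)
    (e : pullback N.hom (S.fromSpecStalk (genericPoint S)) ≅ pullback M.hom (S.fromSpecStalk (genericPoint S)))
    (he : e.hom ≫ pullback.snd _ _ = pullback.snd _ _) :
    ∃ (V : S.Opens) (N' : Over S), s ∈ V ∧ V ≤ V₁ ∧ (∀ p ∈ V, p ≠ s → p ∈ W) ∧ Smooth N'.hom ∧ IsSeparated N'.hom ∧
      QuasiCompact N'.hom ∧ Set.range N'.hom ⊆ ((W ⊔ V : S.Opens) : Set S) ∧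
      (∃ (Y : Scheme.{u}) (y : Y ⟶ W.toScheme) (i : Y ⟶ N.left) (i' : Y ⟶ N'.left),
        IsPullback i y N.hom W.ι ∧ IsPullback i' y N'.hom W.ι) ∧
      ∃ (Y : Scheme.{u}) (y : Y ⟶ V.toScheme) (i : Y ⟶ M.left) (i' : Y ⟶ N'.left),
        IsPullback i y M.hom V.ι ∧ IsPullback i' y N'.hom V.ι := by
  obtain ⟨O, Z, z, i, j, hO, h1, h2⟩ := SpreadIso.exists_open_iso (genericPoint S) N.hom M.hom e he
  have hcl : IsClosed ((O ⊓ W : S.Opens) : Set S)ᶜ := (O ⊓ W).isOpen.isClosed_compl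
  have hne : ((O ⊓ W : S.Opens) : Set S)ᶜ ≠ Set.univ := by
    intro h
    have h3 : genericPoint S ∈ ((O ⊓ W : S.Opens) : Set S)ᶜ := by rw [h]; trivial
    exact h3 ⟨hO, hW⟩
  have hfin := Groth.Agent.CurvesC.Dim1Top.finite_of_isClosed hdim hcl hne
  have hcl2 : IsClosed (((O ⊓ W : S.Opens) : Set S)ᶜ \ {s}) := by
    rw [← Set.biUnion_of_singleton (((O ⊓ W : S.Opens) : Set S)ᶜ \ {s})]
    exact (hfin.subset Set.sdiff_subset).isClosed_biUnion fun x hx =>
      Groth.Agent.CurvesC.Dim1Top.isClosed_singleton_of_mem hdim hcl hne hx.1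
  let V : S.Opens := V₁ ⊓ ⟨_, hcl2.isOpen_compl⟩
  have hV : ∀ p ∈ V, p ≠ s → p ∈ O ⊓ W := by
    rintro p ⟨-, hp⟩ hps
    by_contra h
    exact hp ⟨h, hps⟩
  have hsV' : s ∈ V := ⟨hsV, fun h => h.2 rfl⟩
  have hEO : W ⊓ V ≤ O := fun p hp => (hV p hp.2 (fun h => hsW (h ▸ hp.1))).1
  -- the overlap
  let Z' := pullback z (S.homOfLE hEO)
  let z' : Z' ⟶ (W ⊓ V).toScheme := pullback.snd _ _
  have h3 : IsPullback (pullback.fst z (S.homOfLE hEO) ≫ i) z' N.hom (W ⊓ V).ι := by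
    have := (IsPullback.of_hasPullback z (S.homOfLE hEO)).paste_horiz h1
    rwa [Scheme.homOfLE_ι] at this
  have h4 : IsPullback (pullback.fst z (S.homOfLE hEO) ≫ j) z' M.hom (W ⊓ V).ι := by
    have := (IsPullback.of_hasPullback z (S.homOfLE hEO)).paste_horiz h2
    rwa [Scheme.homOfLE_ι] at this
  let f₁ : Z' ⟶ pullback N.hom W.ι := pullback.lift (pullback.fst z (S.homOfLE hEO) ≫ i)
    (z' ≫ S.homOfLE inf_le_left) (by rw [h3.w, Category.assoc, Scheme.homOfLE_ι])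
  let f₂ : Z' ⟶ pullback M.hom V.ι := pullback.lift (pullback.fst z (S.homOfLE hEO) ≫ j)
    (z' ≫ S.homOfLE inf_le_right) (by rw [h4.w, Category.assoc, Scheme.homOfLE_ι])
  have h5 : IsPullback f₁ z' (pullback.snd N.hom W.ι) (S.homOfLE inf_le_left) := by
    refine IsPullback.of_right (h₁₂ := pullback.fst N.hom W.ι) (h₂₂ := W.ι) (v₁₃ := N.hom) ?_ (pullback.lift_snd _ _ _)
      (IsPullback.of_hasPullback _ _)
    rw [pullback.lift_fst, Scheme.homOfLE_ι]
    exact h3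
  have h6 : IsPullback f₂ z' (pullback.snd M.hom V.ι) (S.homOfLE inf_le_right) := by
    refine IsPullback.of_right (h₁₂ := pullback.fst M.hom V.ι) (h₂₂ := V.ι) (v₁₃ := M.hom) ?_ (pullback.lift_snd _ _ _)
      (IsPullback.of_hasPullback _ _)
    rw [pullback.lift_fst, Scheme.homOfLE_ι]
    exact h4
  obtain ⟨Y, π, i₁, i₂, hi₁, hi₂, h7, h8, h9, h10⟩ := Groth.Agent.FlatA.GlueTwo.exists_glued
    (isPullback_opens_inf_le (le_sup_left : W ≤ W ⊔ V) (le_sup_right : V ≤ W ⊔ V)) h5 h6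
  have hcov : ∀ x : (W ⊔ V).toScheme, x ∈ Set.range (S.homOfLE (le_sup_left : W ≤ W ⊔ V)) ∨
      x ∈ Set.range (S.homOfLE (le_sup_right : V ≤ W ⊔ V)) := by
    rintro ⟨x, hx | hx⟩
    · exact Or.inl ⟨⟨x, hx⟩, Subtype.ext (by simp)⟩
    · exact Or.inr ⟨⟨x, hx⟩, Subtype.ext (by simp)⟩
  have s1 : Smooth π := Groth.Agent.FlatA.GlueTwo.of_isPullback_pair @Smooth hcov h7 h8 inferInstance inferInstance
  have s2 : IsSeparated π :=
    Groth.Agent.FlatA.GlueTwo.of_isPullback_pair @IsSeparated hcov h7 h8 inferInstance inferInstance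
  have s3 : QuasiCompact π :=
    Groth.Agent.FlatA.GlueTwo.of_isPullback_pair @QuasiCompact hcov h7 h8 inferInstance inferInstance
  have h11 := isPullback_comp_mono h7 (W ⊔ V).ι
  have h12 := isPullback_comp_mono h8 (W ⊔ V).ι
  rw [Scheme.homOfLE_ι] at h11 h12
  refine ⟨V, Over.mk (π ≫ (W ⊔ V).ι), hsV', inf_le_left, fun p hp hps => (hV p hp hps).2,
    inferInstanceAs (Smooth (π ≫ (W ⊔ V).ι)), inferInstanceAs (IsSeparated (π ≫ (W ⊔ V).ι)),
    inferInstanceAs (QuasiCompact (π ≫ (W ⊔ V).ι)), ?_, ?_, ?_⟩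
  · rintro _ ⟨y, rfl⟩
    exact (π y).2
  · exact ⟨_, pullback.snd N.hom W.ι, pullback.fst N.hom W.ι, i₁, IsPullback.of_hasPullback _ _, h11⟩
  · exact ⟨_, pullback.snd M.hom V.ι, pullback.fst M.hom V.ι, i₂, IsPullback.of_hasPullback _ _, h12⟩

end K131.GlueStep
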