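import Groth.Agent.Neron.K131.SHBdd
import Groth.Agent.Neron.K643.NeronDesc
import Groth.Agent.Neron.K362.AmpSH
import Groth.Agent.Neron.K956.Exc
import Groth.Agent.Flat2B.SmoothGeom
import Groth.Agent.S0537

/-!
# Néron models over excellent discrete valuation rings from projective parameter data
-/

set_option autoImplicit false
universe u

open CategoryTheory CategoryTheory.Limits AlgebraicGeometry

namespace K131.LocMain

open ParData

theorem exists_local_aux {R K R' K' : Type u} [CommRing R] [IsDomain R] [IsDiscreteValuationRing R]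
    [Field K] [Algebra R K] [IsFractionRing R K] [CommRing R'] [IsDomain R'] [IsDiscreteValuationRing R'] [Algebra R R']
    [IsLocalHom (algebraMap R R')] [hsh : Hensel.IsStrictHenselization R R'] (hex' : EGA4.IsExcellent R')
    [Field K'] [Algebra R' K'] [IsFractionRing R' K'] [Algebra K K'] [Algebra R K'] [IsScalarTower R K K']
    [IsScalarTower R R' K']
    (J : Over (Spec (CommRingCat.of K))) [GrpObj J] [IsCommMonObj J]
    [Smooth J.hom] [IsSeparated J.hom] [QuasiCompact J.hom] [GeometricallyIrreducible J.hom] (D : Par J.hom) :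
    ∃ (N : Over (Spec (CommRingCat.of R))) (_ : (SGA7.genFib R K).obj N ≅ J), SGA7.IsNeron R K N := by
  have hcomm : (algebraMap K K').comp (algebraMap R K) = (algebraMap R' K').comp (algebraMap R R') := by
    rw [← IsScalarTower.algebraMap_eq, ← IsScalarTower.algebraMap_eq]
  obtain ⟨N', hG, e, he, hN'⟩ := SHBdd.exists_neron_sh J D hex' hcomm
  obtain ⟨LA, L', hLA, hL', ⟨θ⟩⟩ := K362.AmpSH.exists_isAmple_neron (R := R) J N' hN' e
  have hgi : GeometricallyIntegral J.hom := Groth.Agent.Flat2B.SmoothGeom.geometricallyIntegral_of_smooth J.hom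
  exact K643.NeronDesc.exists_isNeron' R R' K K' hN' e hLA hL' θ

theorem exists_local_frac {R K R' K' : Type u} [CommRing R] [IsDomain R] [IsDiscreteValuationRing R]
    [Field K] [Algebra R K] [IsFractionRing R K] [CommRing R'] [IsDomain R'] [IsDiscreteValuationRing R'] [Algebra R R']
    [IsLocalHom (algebraMap R R')] [hsh : Hensel.IsStrictHenselization R R'] (hex' : EGA4.IsExcellent R')
    [Field K'] [Algebra R' K'] [IsFractionRing R' K'] (hinj : Function.Injective (algebraMap R R'))
    (J : Over (Spec (CommRingCat.of K))) [GrpObj J] [IsCommMonObj J]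
    [Smooth J.hom] [IsSeparated J.hom] [QuasiCompact J.hom] [GeometricallyIrreducible J.hom] (D : Par J.hom) :
    ∃ (N : Over (Spec (CommRingCat.of R))) (_ : (SGA7.genFib R K).obj N ≅ J), SGA7.IsNeron R K N := by
  have hf : Function.Injective ((algebraMap R' K').comp (algebraMap R R')) :=
    (IsFractionRing.injective R' K').comp hinj
  let algKK' : Algebra K K' := (IsFractionRing.lift (K := K) hf).toAlgebra
  let algRK' : Algebra R K' := ((algebraMap R' K').comp (algebraMap R R')).toAlgebra
  have ht1 : IsScalarTower R K K' :=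
    IsScalarTower.of_algebraMap_eq fun r => (IsFractionRing.lift_algebraMap (K := K) hf r).symm
  have ht2 : IsScalarTower R R' K' := IsScalarTower.of_algebraMap_eq' rfl
  exact exists_local_aux (R' := R') (K' := K') hex' J D

/-- **Néron models over excellent discrete valuation rings.** -/
theorem exists_local {R K : Type u} [CommRing R] [IsDomain R] [IsDiscreteValuationRing R] (hex : EGA4.IsExcellent R)
    [Field K] [Algebra R K] [IsFractionRing R K] (J : Over (Spec (CommRingCat.of K))) [GrpObj J] [IsCommMonObj J]
    [Smooth J.hom] [IsSeparated J.hom] [QuasiCompact J.hom] [GeometricallyIrreducible J.hom] (D : Par J.hom) :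
    ∃ (N : Over (Spec (CommRingCat.of R))) (_ : (SGA7.genFib R K).obj N ≅ J), SGA7.IsNeron R K N := by
  obtain ⟨R', _, _, _, _, hsh⟩ := Groth.Agent.S0537.result R
  obtain ⟨hdom, hdvr⟩ := Groth.Agent.Sga7.H133.StrictInertia.isDiscreteValuationRing_strictHenselization R R'
  exact exists_local_frac (R' := R') (K' := FractionRing R')
    (K956.Exc.isExcellent_of_isStrictHenselization R R' hex)
    (Groth.Agent.S1975.result R R' (Or.inr inferInstance)).2.2.1 J D

end K131.LocMain
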