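import Groth.Agent.Neron.K131.BddProjBC
import Groth.Agent.Neron.K131.Compos

/-!
# Boundedness from a projective parameter scheme over a finite separable extension

`Par a` for `a : X ⟶ Spec K`: a finite separable extension `L/K`, a scheme `Z` projective over `L`, an open `W` of `Z`
and a morphism `h : W ⟶ X` over `Spec L ⟶ Spec K` such that for every separable extension `F/L` the `F`-points of `Z` lie
in `W` and every `F`-point of `X` over `K` comes from an `F`-point of `W` over `L`.

`bdd_bc`: for such an `X` the set of all `K'`-points of `X ×_K K'` is bounded, for `K'` the fraction field of an excellent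
henselian discrete valuation ring `R'`, separable over `K`.
-/

set_option autoImplicit false
universe u

open CategoryTheory CategoryTheory.Limits AlgebraicGeometry

namespace K131.ParData

open Bdd BddImg CohB1 BddProjBC

/-- Projective parameter data over a finite separable extension. -/
structure Par {K : Type u} [Field K] {X : Scheme.{u}} (a : X ⟶ Spec (CommRingCat.of K)) where
  L : Type u
  [field : Field L]
  [alg : Algebra K L]
  finite : Module.Finite K L
  separable : Algebra.IsSeparable K L
  n : ℕ
  Z : Scheme.{u}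
  j : Z ⟶ ProjSpace n L
  isClosedImmersion : IsClosedImmersion j
  W : Z.Opens
  h : W.toScheme ⟶ X
  w : h ≫ a = (W.ι ≫ j ≫ ProjSpace.toSpec n L) ≫ Spec.map (CommRingCat.ofHom (algebraMap K L))
  mem : ∀ (F : Type u) [Field F] [Algebra L F] [Algebra.IsSeparable L F] (c : Spec (CommRingCat.of F) ⟶ Z),
    c ≫ j ≫ ProjSpace.toSpec n L = Spec.map (CommRingCat.ofHom (algebraMap L F)) → Set.range c ⊆ (W : Set Z)
  surj : ∀ (F : Type u) [Field F] [Algebra K F] [Algebra L F] [IsScalarTower K L F] [Algebra.IsSeparable L F]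
    (y : Spec (CommRingCat.of F) ⟶ X), y ≫ a = Spec.map (CommRingCat.ofHom (algebraMap K F)) →
    ∃ c : Spec (CommRingCat.of F) ⟶ W.toScheme,
      c ≫ W.ι ≫ j ≫ ProjSpace.toSpec n L = Spec.map (CommRingCat.ofHom (algebraMap L F)) ∧ c ≫ h = y

attribute [instance] Par.field Par.alg Par.finite Par.separable Par.isClosedImmersion

/-- The integral closures of `R'` in finite separable extensions of its fraction field are excellent henselian discrete
valuation rings. -/
def HasExt (R' : Type u) [CommRing R'] (K' : Type u) [Field K'] [Algebra R' K'] : Prop :=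
  ∀ (F : Type u) [Field F] [Algebra K' F] [Module.Finite K' F] [Algebra.IsSeparable K' F],
    ∃ (R₃ : Type u) (_ : CommRing R₃) (_ : IsDomain R₃) (_ : IsDiscreteValuationRing R₃) (_ : HenselianLocalRing R₃)
      (_ : Algebra R₃ F) (_ : IsFractionRing R₃ F) (f : R' →+* R₃), EGA4.IsExcellent R₃ ∧ f.IsIntegral ∧
      (algebraMap R₃ F).comp f = (algebraMap K' F).comp (algebraMap R' K')

theorem bdd_bc {K : Type u} [Field K] {X : Scheme.{u}} {a : X ⟶ Spec (CommRingCat.of K)} [LocallyOfFiniteType a]
    [CompactSpace X] (D : Par a)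
    {R' : Type u} [CommRing R'] [IsDomain R'] [IsDiscreteValuationRing R'] {K' : Type u} [Field K'] [Algebra R' K']
    [IsFractionRing R' K'] (hext : HasExt R' K') [Algebra K K'] [Algebra.IsSeparable K K']
    {X' : Scheme.{u}} {a' : X' ⟶ Spec (CommRingCat.of K')} {p : X' ⟶ X}
    (hX : IsPullback p a' a (Spec.map (CommRingCat.ofHom (algebraMap K K')))) :
    Bdd R' a' (fun _ => True) := by
  obtain ⟨F, _, _, _, _, ht1, ht2, hfin, hsep⟩ := Compos.exists_compositum K D.L K'
  obtain ⟨R₃, _, _, _, _, _, _, f, hex, hf, hcomm⟩ := hext F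
  have hsepKF : Algebra.IsSeparable K F := Algebra.IsSeparable.trans K K' F
  have hsepLF : Algebra.IsSeparable D.L F := Algebra.isSeparable_tower_top_of_isSeparable K D.L F
  have hcomp : Spec.map (CommRingCat.ofHom (algebraMap K' F)) ≫ Spec.map (CommRingCat.ofHom (algebraMap K K')) =
      Spec.map (CommRingCat.ofHom (algebraMap K F)) := by
    rw [← Spec.map_comp, ← CommRingCat.ofHom_comp, ← IsScalarTower.algebraMap_eq]
  -- the scheme over `F`
  let X₁ := pullback a' (Spec.map (CommRingCat.ofHom (algebraMap K' F)))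
  let p₁ : X₁ ⟶ X' := pullback.fst _ _
  let a₁ : X₁ ⟶ Spec (CommRingCat.of F) := pullback.snd _ _
  have h1 : IsPullback p₁ a₁ a' (Spec.map (CommRingCat.ofHom (algebraMap K' F))) := IsPullback.of_hasPullback _ _
  have h2 : IsPullback (p₁ ≫ p) a₁ a (Spec.map (CommRingCat.ofHom (algebraMap K F))) := by
    rw [← hcomp]
    exact h1.paste_horiz hX
  have h3 := bdd_of_proj_bc hex D.j D.W (fun c hc => D.mem F c hc) a h2 D.h D.w
  have hlft : LocallyOfFiniteType a' := MorphismProperty.of_isPullback hX inferInstance
  have hqc : CompactSpace X' := by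
    have h4 : QuasiCompact p := MorphismProperty.of_isPullback hX.flip inferInstance
    exact QuasiCompact.compactSpace_of_compactSpace p
  -- uniformizers
  obtain ⟨π, hπ⟩ := IsDiscreteValuationRing.exists_irreducible R'
  have hinj : Function.Injective f := by
    have h5 : Function.Injective ((algebraMap R₃ F).comp f) := by
      rw [hcomm]
      exact (algebraMap K' F).injective.comp (IsFractionRing.injective R' K')
    exact Function.Injective.of_comp h5
  have hπ₁ : Unif F (f π) := by
    refine UnifDvr.unif ((map_ne_zero_iff _ hinj).2 hπ.ne_zero) fun hu => hπ.not_isUnit ?_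
    have hloc : IsLocalHom f := hf.isLocalHom hinj
    exact (isUnit_map_iff f π).1 hu
  have h6 := BddCalc.bdd_of_bc h1 (R := R') (R₁ := R₃) hπ₁ (π := π)
    ((map_ne_zero_iff _ (IsFractionRing.injective R' K')).2 hπ.ne_zero) congr($hcomm π) (fun z hz => by
      obtain ⟨r, hr⟩ := hz
      obtain ⟨q, hq, hqr⟩ := hf r
      apply IsIntegrallyClosed.isIntegral_iff.1
      refine ⟨q, hq, ?_⟩
      apply (algebraMap K' F).injective
      rw [map_zero, Polynomial.hom_eval₂, ← hcomm, ← hr, ← Polynomial.hom_eval₂, hqr, map_zero]) h3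
  refine ⟨h6.choose, fun c hc _ => h6.choose_spec c hc ?_⟩
  have hw : (Spec.map (CommRingCat.ofHom (algebraMap K' F)) ≫ c) ≫ a' =
      𝟙 _ ≫ Spec.map (CommRingCat.ofHom (algebraMap K' F)) := by
    rw [Category.assoc, hc, Category.comp_id, Category.id_comp]
  have hy : (Spec.map (CommRingCat.ofHom (algebraMap K' F)) ≫ c ≫ p) ≫ a =
      Spec.map (CommRingCat.ofHom (algebraMap K F)) := by
    rw [Category.assoc, Category.assoc, hX.w, reassoc_of% hc, hcomp]
  obtain ⟨c₀, hc₀, hc₀y⟩ := D.surj F _ hy
  refine ⟨h1.lift _ _ hw, h1.lift_snd _ _ hw, ⟨c₀, hc₀, ?_⟩, h1.lift_fst _ _ hw⟩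
  rw [hc₀y, ← Category.assoc (h1.lift _ _ hw), h1.lift_fst _ _ hw, Category.assoc]

end K131.ParData
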