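import Groth.Agent.S2817

/-!
# The fraction field of a strict henselization is separable algebraic
-/

set_option autoImplicit false
universe u

open scoped TensorProduct

namespace K131.SHFrac

/-- Let `E` be a finite product of fields separable over `k` and `g : E → K'` a ring homomorphism to a field such that
every element of `K'` is a quotient of elements of the range. Then `K'/k` is separable. -/
theorem isSeparable_of_pi {k : Type u} [Field k] {n : ℕ} (E : Fin n → Type u) [∀ i, Field (E i)]
    [∀ i, Algebra k (E i)] (hE : ∀ i, Algebra.IsSeparable k (E i)) {K' : Type u} [Field K'] [Algebra k K']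
    (g : (∀ i, E i) →ₐ[k] K') (hg : ∀ z : K', ∃ a b, z = g a / g b) : Algebra.IsSeparable k K' := by
  classical
  -- one idempotent is not killed
  obtain ⟨i, hi⟩ : ∃ i, g (Pi.single i 1) ≠ 0 := by
    by_contra hcon
    push Not at hcon
    have h1 : g (∑ i, Pi.single i (1 : E i)) = 1 := by
      rw [show ∑ i, Pi.single i (1 : E i) = (1 : ∀ i, E i) from Finset.univ_sum_single (1 : ∀ i, E i), map_one]
    rw [map_sum, Finset.sum_eq_zero fun i _ => hcon i] at h1
    exact zero_ne_one h1
  have hid : g (Pi.single i 1) = 1 := by
    have h2 : g (Pi.single i 1) * g (Pi.single i 1) = g (Pi.single i 1) := by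
      rw [← map_mul, ← Pi.single_mul, one_mul]
    exact (mul_eq_left₀ hi).1 h2
  have hgx : ∀ x : ∀ i, E i, g x = g (Pi.single i (x i)) := by
    intro x
    have h3 : x * Pi.single i 1 = Pi.single i (x i) := by
      rw [← Pi.single_mul_right, mul_one]
    rw [← h3, map_mul, hid, mul_one]
  let h : E i →ₐ[k] K' :=
    { toFun := fun y => g (Pi.single i y)
      map_one' := hid
      map_mul' := fun x y => by rw [Pi.single_mul, map_mul]
      map_zero' := by rw [Pi.single_zero, map_zero]
      map_add' := fun x y => by rw [Pi.single_add, map_add]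
      commutes' := fun c => by
        have h4 := hgx (algebraMap k _ c)
        rw [g.commutes] at h4
        exact h4.symm }
  have hsurj : Function.Surjective h := by
    intro z
    obtain ⟨a, b, rfl⟩ := hg z
    refine ⟨a i / b i, ?_⟩
    rw [map_div₀]
    change g (Pi.single i (a i)) / g (Pi.single i (b i)) = _
    rw [← hgx, ← hgx]
  have hbij : Function.Bijective h := ⟨h.toRingHom.injective, hsurj⟩
  have := hE i
  exact Algebra.IsSeparable.of_algHom k (E i) (AlgEquiv.ofBijective h hbij).symm.toAlgHom

theorem isSeparable {R R' K K' : Type u} [CommRing R] [IsDomain R] [IsLocalRing R] [IsNoetherianRing R] [CommRing R']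
    [IsDomain R'] [IsLocalRing R'] [Algebra R R'] [IsLocalHom (algebraMap R R')] [Hensel.IsStrictHenselization R R']
    [Field K] [Algebra R K] [IsFractionRing R K] [Field K'] [Algebra R' K'] [IsFractionRing R' K'] [Algebra K K']
    (hcomm : (algebraMap K K').comp (algebraMap R K) = (algebraMap R' K').comp (algebraMap R R')) :
    Algebra.IsSeparable K K' := by
  let p : Ideal R := ⊥
  have hp : p.IsPrime := Ideal.isPrime_bot
  obtain ⟨n, E, _, _, hE, ⟨e⟩⟩ := Groth.Agent.S2817.result R R' p
  let k := p.ResidueField
  -- `k → K`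
  have hf₂ : p.primeCompl ≤ Submonoid.comap (algebraMap R K) (IsUnit.submonoid K) := by
    intro x hx
    simp only [Submonoid.mem_comap]
    have : x ≠ 0 := fun h => hx (by rw [h]; exact Submodule.zero_mem _)
    exact IsUnit.mk0 _ ((map_ne_zero_iff _ (IsFractionRing.injective R K)).2 this)
  let u : k →+* K := Ideal.ResidueField.lift p (algebraMap R K) bot_le hf₂
  have hu : u.comp (algebraMap R k) = algebraMap R K := RingHom.ext fun r =>
    Ideal.ResidueField.lift_algebraMap p (algebraMap R K) bot_le hf₂ r
  let algkK : Algebra k K := u.toAlgebra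
  let algkK' : Algebra k K' := ((algebraMap K K').comp u).toAlgebra
  have ht1 : IsScalarTower k K K' := IsScalarTower.of_algebraMap_eq' rfl
  let algRK' : Algebra R K' := ((algebraMap R' K').comp (algebraMap R R')).toAlgebra
  have ht2 : IsScalarTower R R' K' := IsScalarTower.of_algebraMap_eq' rfl
  have ht3 : IsScalarTower R k K' := IsScalarTower.of_algebraMap_eq' (by
    change (algebraMap R' K').comp (algebraMap R R') = ((algebraMap K K').comp u).comp (algebraMap R k)
    rw [← hcomm, RingHom.comp_assoc, hu])
  let g₀ : k ⊗[R] R' →ₐ[k] K' := Algebra.TensorProduct.lift (Algebra.ofId k K') (IsScalarTower.toAlgHom R R' K')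
    (fun _ _ => mul_comm _ _)
  have hg₀ : ∀ x : R', g₀ (1 ⊗ₜ x) = algebraMap R' K' x := by
    intro x
    rw [Algebra.TensorProduct.lift_tmul, map_one, one_mul]
    rfl
  have hsep : Algebra.IsSeparable k K' := by
    refine isSeparable_of_pi E hE (g₀.comp e.symm.toAlgHom) fun z => ?_
    obtain ⟨a, b, hb, rfl⟩ := IsFractionRing.div_surjective (A := R') z
    refine ⟨e (1 ⊗ₜ a), e (1 ⊗ₜ b), ?_⟩
    change _ = g₀ (e.symm (e _)) / g₀ (e.symm (e _))
    rw [AlgEquiv.symm_apply_apply, AlgEquiv.symm_apply_apply, hg₀, hg₀]
  exact Algebra.isSeparable_tower_top_of_isSeparable k K K'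

end K131.SHFrac
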