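import Groth.Agent.Neron.K131.ParData
import Groth.Agent.Neron.K131.SHFrac
import Groth.Agent.Neron.K131.ExistSH
import Groth.Agent.Neron.K788.DvrExt
import Groth.Agent.Sga7.H133.StrictInertia

/-!
# Néron models over strict henselizations from projective parameter data
-/

set_option autoImplicit false
universe u

open CategoryTheory CategoryTheory.Limits AlgebraicGeometry

namespace K131.SHBdd

open Bdd BddImg CohB1 ParData

theorem hasExt (R' : Type u) [CommRing R'] [IsDomain R'] [IsDiscreteValuationRing R'] [HenselianLocalRing R']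
    [IsSepClosed (IsLocalRing.ResidueField R')] (hex : EGA4.IsExcellent R') (K' : Type u) [Field K'] [Algebra R' K']
    [IsFractionRing R' K'] : HasExt R' K' := by
  intro F _ _ _ _
  let alg : Algebra R' F := ((algebraMap K' F).comp (algebraMap R' K')).toAlgebra
  have ht : IsScalarTower R' K' F := IsScalarTower.of_algebraMap_eq' rfl
  obtain ⟨h1, h2, h3, h4, h5, h6⟩ := K788.DvrExt.exists_dvr_integralClosure R' hex K' F
  refine ⟨integralClosure R' F, inferInstance, inferInstance, h2, h4, inferInstance,
    integralClosure.isFractionRing_of_finite_extension K' F, algebraMap R' (integralClosure R' F), h6, ?_, ?_⟩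
  · exact Algebra.IsIntegral.isIntegral
  · rfl

/-- `Par` from an embedding into `ProjSpaceOver`. -/
noncomputable def ofOver {K : Type u} [Field K] {X : Scheme.{u}} (a : X ⟶ Spec (CommRingCat.of K)) (L : Type u) [Field L]
    [Algebra K L] [Module.Finite K L] [Algebra.IsSeparable K L] {n : ℕ} {Z : Scheme.{u}}
    (c : Z ⟶ ProjSpaceOver n (Spec (CommRingCat.of L))) [IsClosedImmersion c] (W : Z.Opens) (h : W.toScheme ⟶ X)
    (w : h ≫ a = W.ι ≫ c ≫ ProjSpaceOver.toBase n _ ≫ Spec.map (CommRingCat.ofHom (algebraMap K L)))
    (mem : ∀ (F : Type u) [Field F] [Algebra L F] [Algebra.IsSeparable L F] (z : Spec (CommRingCat.of F) ⟶ Z),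
      z ≫ c ≫ ProjSpaceOver.toBase n _ = Spec.map (CommRingCat.ofHom (algebraMap L F)) → Set.range z ⊆ (W : Set Z))
    (surj : ∀ (F : Type u) [Field F] [Algebra K F] [Algebra L F] [IsScalarTower K L F] [Algebra.IsSeparable L F]
      (y : Spec (CommRingCat.of F) ⟶ X), y ≫ a = Spec.map (CommRingCat.ofHom (algebraMap K F)) →
      ∃ z : Spec (CommRingCat.of F) ⟶ W.toScheme,
        z ≫ W.ι ≫ c ≫ ProjSpaceOver.toBase n _ = Spec.map (CommRingCat.ofHom (algebraMap L F)) ∧ z ≫ h = y) : Par a where
  L := L
  finite := inferInstance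
  separable := inferInstance
  n := n
  Z := Z
  j := c ≫ (Groth.Agent.CohqB.ProjBC.projSpaceOverIso n L).hom
  isClosedImmersion := inferInstance
  W := W
  h := h
  w := by
    rw [w]
    simp only [Category.assoc, Groth.Agent.CohqB.ProjBC.projSpaceOverIso_hom_toSpec_assoc]
  mem := fun F _ _ _ z hz => mem F z (by
    rwa [Category.assoc, Groth.Agent.CohqB.ProjBC.projSpaceOverIso_hom_toSpec] at hz)
  surj := fun F _ _ _ _ _ y hy => by
    rw [Category.assoc, Groth.Agent.CohqB.ProjBC.projSpaceOverIso_hom_toSpec]
    exact surj F y hy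

/-- **The Néron model over a strict henselization.** -/
theorem exists_neron_sh {R : Type u} [CommRing R] [IsDomain R] [IsDiscreteValuationRing R] {K : Type u} [Field K]
    [Algebra R K] [IsFractionRing R K] (J : Over (Spec (CommRingCat.of K))) [GrpObj J] [IsCommMonObj J] [Smooth J.hom]
    [IsSeparated J.hom] [QuasiCompact J.hom] [GeometricallyIrreducible J.hom] (D : Par J.hom)
    {R' : Type u} [CommRing R'] [IsDomain R'] [IsDiscreteValuationRing R'] [Algebra R R']
    [IsLocalHom (algebraMap R R')] [hsh : Hensel.IsStrictHenselization R R'] (hex' : EGA4.IsExcellent R')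
    {K' : Type u} [Field K'] [Algebra R' K'] [IsFractionRing R' K'] [Algebra K K']
    (hcomm : (algebraMap K K').comp (algebraMap R K) = (algebraMap R' K').comp (algebraMap R R')) :
    ∃ (N : Over (Spec (CommRingCat.of R'))) (_ : GrpObj N)
      (e : (SGA7.genFib R' K').obj N ≅ Red.bc (Spec.map (CommRingCat.ofHom (algebraMap K K'))) J),
      IsMonHom e.hom ∧ SGA7.IsNeron R' K' N := by
  have hh : HenselianLocalRing R' := hsh.henselian
  have hsep : IsSepClosed (IsLocalRing.ResidueField R') := hsh.isSepClosure.sep_closed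
  have hKK' : Algebra.IsSeparable K K' := SHFrac.isSeparable hcomm
  let s := Spec.map (CommRingCat.ofHom (algebraMap K K'))
  let A := Red.bc s J
  have : Smooth A.hom := inferInstanceAs (Smooth (pullback.snd J.hom s))
  have : IsSeparated A.hom := inferInstanceAs (IsSeparated (pullback.snd J.hom s))
  have : QuasiCompact A.hom := inferInstanceAs (QuasiCompact (pullback.snd J.hom s))
  have : GeometricallyIrreducible A.hom := inferInstanceAs (GeometricallyIrreducible (pullback.snd J.hom s))
  have hqc : CompactSpace J.left := QuasiCompact.compactSpace_of_compactSpace J.hom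
  have hb : Bdd R' A.hom (fun _ => True) :=
    bdd_bc D (hasExt R' hex' K') (X' := A.left) (a' := A.hom) (p := pullback.fst J.hom s) (IsPullback.of_hasPullback _ _)
  exact ExistSH.exists_neron A hb

end K131.SHBdd
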