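import Groth.Agent.PicF.K248.StalkLim
import Groth.Agent.Lim8.K116.OverIso
import Mathlib.AlgebraicGeometry.FunctionField

/-!
# Spreading out isomorphisms from the local ring at a point

Two schemes of finite presentation over `S` whose base changes to `Spec O_{S,s}` are isomorphic are isomorphic over an
open neighbourhood of `s`.
-/

set_option autoImplicit false
universe u

open CategoryTheory CategoryTheory.Limits AlgebraicGeometry

namespace K131.SpreadIso

open K248.StalkLim

instance isAffineHom_map (S : Scheme.{u}) (s : S) {V W : Nhd S s} (f : V ⟶ W) : IsAffineHom ((D S s).map f) := by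
  have h1 : IsAffine ((D S s).obj V) := V.2.1
  have h2 : IsAffine ((D S s).obj W) := W.2.1
  infer_instance

theorem exists_open_iso {S : Scheme.{u}} (s : S) {N M : Scheme.{u}} (n : N ⟶ S) (m : M ⟶ S)
    [LocallyOfFinitePresentation n] [QuasiCompact n] [QuasiSeparated n]
    [LocallyOfFinitePresentation m] [QuasiCompact m] [QuasiSeparated m]
    (e : pullback n (S.fromSpecStalk s) ≅ pullback m (S.fromSpecStalk s))
    (he : e.hom ≫ pullback.snd m (S.fromSpecStalk s) = pullback.snd n (S.fromSpecStalk s)) :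
    ∃ (O : S.Opens) (Z : Scheme.{u}) (z : Z ⟶ O.toScheme) (i : Z ⟶ N) (j : Z ⟶ M), s ∈ O ∧
      IsPullback i z n O.ι ∧ IsPullback j z m O.ι := by
  obtain ⟨i₀⟩ := (inferInstance : Nonempty (Nhd S s))
  have hc : CompactSpace ((D S s).obj i₀) := by
    have : IsAffine ((D S s).obj i₀) := i₀.2.1
    infer_instance
  have hqs : QuasiSeparatedSpace ((D S s).obj i₀) := by
    have : IsAffine ((D S s).obj i₀) := i₀.2.1
    infer_instance
  let ι : (D S s).obj i₀ ⟶ S := Scheme.Opens.ι i₀.1
  let a₀ : pullback n ι ⟶ (D S s).obj i₀ := pullback.snd n ι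
  let b₀ : pullback m ι ⟶ (D S s).obj i₀ := pullback.snd m ι
  have hleg : (cone S s).π.app i₀ ≫ ι = S.fromSpecStalk s := leg_ι S s i₀
  let a : pullback n (S.fromSpecStalk s) ⟶ (cone S s).pt := pullback.snd n (S.fromSpecStalk s)
  let b : pullback m (S.fromSpecStalk s) ⟶ (cone S s).pt := pullback.snd m (S.fromSpecStalk s)
  have wX : pullback.fst n (S.fromSpecStalk s) ≫ n = (a ≫ (cone S s).π.app i₀) ≫ ι := by
    rw [Category.assoc, hleg]
    exact pullback.condition
  have wY : pullback.fst m (S.fromSpecStalk s) ≫ m = (b ≫ (cone S s).π.app i₀) ≫ ι := by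
    rw [Category.assoc, hleg]
    exact pullback.condition
  let qX : pullback n (S.fromSpecStalk s) ⟶ pullback n ι := pullback.lift _ _ wX
  let qY : pullback m (S.fromSpecStalk s) ⟶ pullback m ι := pullback.lift _ _ wY
  have hX : IsPullback qX a a₀ ((cone S s).π.app i₀) := by
    refine IsPullback.of_right (h₁₂ := pullback.fst n ι) (v₁₃ := n) (h₂₂ := ι) ?_ (pullback.lift_snd _ _ _)
      (IsPullback.of_hasPullback _ _)
    rw [pullback.lift_fst, hleg]
    exact IsPullback.of_hasPullback _ _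
  have hY : IsPullback qY b b₀ ((cone S s).π.app i₀) := by
    refine IsPullback.of_right (h₁₂ := pullback.fst m ι) (v₁₃ := m) (h₂₂ := ι) ?_ (pullback.lift_snd _ _ _)
      (IsPullback.of_hasPullback _ _)
    rw [pullback.lift_fst, hleg]
    exact IsPullback.of_hasPullback _ _
  obtain ⟨j, φ, Xj, Yj, aj, bj, pX, pY, h1, h2, ej, hej⟩ :=
    K116.OverIso.exists_iso (D S s) (cone S s) (isLimit S s) i₀ a₀ b₀ a b qX qY hX hY e he
  have hφ : (D S s).map φ ≫ ι = Scheme.Opens.ι j.1 := Scheme.homOfLE_ι S (U := j.1) (V := i₀.1) φ.le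
  have h3 : IsPullback (pX ≫ pullback.fst n ι) aj n (Scheme.Opens.ι j.1) := by
    rw [← hφ]
    exact h1.paste_horiz (IsPullback.of_hasPullback n ι)
  have h4 : IsPullback (pY ≫ pullback.fst m ι) bj m (Scheme.Opens.ι j.1) := by
    rw [← hφ]
    exact h2.paste_horiz (IsPullback.of_hasPullback m ι)
  let aj' : Xj ⟶ (j.1 : Scheme.{u}) := aj
  let bj' : Yj ⟶ (j.1 : Scheme.{u}) := bj
  have h5 : IsPullback ej.hom aj' bj' (𝟙 _) := IsPullback.of_horiz_isIso ⟨hej.trans (Category.comp_id aj').symm⟩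
  have h6 : IsPullback (pY ≫ pullback.fst m ι) bj' m (Scheme.Opens.ι j.1) := h4
  have h7 := h5.paste_horiz h6
  rw [Category.id_comp] at h7
  exact ⟨j.1, Xj, aj', pX ≫ pullback.fst n ι, ej.hom ≫ pY ≫ pullback.fst m ι, j.2.2, h3, h7⟩

end K131.SpreadIso
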