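import Groth.Agent.Neron.K131.LocGlob
import Groth.Agent.S0591
import Groth.Agent.Sga3.H515.LimSmooth

/-!
# Spreading out a smooth separated scheme from the local ring at a point
-/

set_option autoImplicit false
universe u

open CategoryTheory CategoryTheory.Limits AlgebraicGeometry TopologicalSpace

namespace K131.SpreadObj

open K248.StalkLim SpreadIso GlueStep LocNeron

instance compactSpace_obj (S : Scheme.{u}) (s : S) (V : Nhd S s) : CompactSpace ((D S s).obj V) := by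
  have h1 : IsAffine ((D S s).obj V) := V.2.1
  infer_instance

instance quasiSeparatedSpace_obj (S : Scheme.{u}) (s : S) (V : Nhd S s) : QuasiSeparatedSpace ((D S s).obj V) := by
  have h1 : IsAffine ((D S s).obj V) := V.2.1
  infer_instance

theorem of_le {P : MorphismProperty Scheme.{u}} [P.IsStableUnderBaseChange] {S X : Scheme.{u}} (f : X ⟶ S)
    {V W : S.Opens} (h : V ≤ W) (hP : P (pullback.snd f W.ι)) : P (pullback.snd f V.ι) := by
  have hw : pullback.fst f V.ι ≫ f = (pullback.snd f V.ι ≫ S.homOfLE h) ≫ W.ι := by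
    rw [Category.assoc, Scheme.homOfLE_ι, pullback.condition]
  have h1 : IsPullback (pullback.lift _ _ hw) (pullback.snd f V.ι) (pullback.snd f W.ι) (S.homOfLE h) := by
    refine IsPullback.of_right (h₁₂ := pullback.fst f W.ι) (h₂₂ := W.ι) (v₁₃ := f) ?_ (pullback.lift_snd _ _ _)
      (IsPullback.of_hasPullback _ _)
    rw [pullback.lift_fst, Scheme.homOfLE_ι]
    exact IsPullback.of_hasPullback _ _
  exact P.of_isPullback h1 hP

open Groth.Agent.Ega43.LimitDescend in
theorem exists_prop {P : MorphismProperty Scheme.{u}} (hP : DescendsLim P) {S : Scheme.{u}} (s : S) {M X₀ : Scheme.{u}}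
    (m : M ⟶ Spec (S.presheaf.stalk s)) (f : X₀ ⟶ S) (g : M ⟶ X₀) (hsq : IsPullback g m f (S.fromSpecStalk s))
    [LocallyOfFinitePresentation f] [QuasiCompact f] [QuasiSeparated f] (hm : P m) :
    ∃ V : S.Opens, s ∈ V ∧ P (pullback.snd f V.ι) := by
  obtain ⟨V, hV⟩ := hP (D S s) (cone S s) (isLimit S s)
    (fun j => Scheme.Opens.ι j.1) (fun {i j} φ => Scheme.homOfLE_ι S (U := i.1) (V := j.1) φ.le) f
    (S.fromSpecStalk s) (fun j => leg_ι S s j) g m hsq hm
  exact ⟨V.1, V.2.2, hV⟩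

theorem exists_obj {S : Scheme.{u}} (s : S) {M : Scheme.{u}}
    (m : M ⟶ Spec (S.presheaf.stalk s)) [LocallyOfFinitePresentation m] [QuasiCompact m] [QuasiSeparated m] :
    ∃ (V : S.Opens) (X₀ : Scheme.{u}) (f₀ : X₀ ⟶ V.toScheme) (g : M ⟶ X₀) (l : Spec (S.presheaf.stalk s) ⟶ V.toScheme),
      s ∈ V ∧ LocallyOfFinitePresentation f₀ ∧ QuasiCompact f₀ ∧ QuasiSeparated f₀ ∧ l ≫ V.ι = S.fromSpecStalk s ∧
      IsPullback g m f₀ l := by
  have i1 : @LocallyOfFinitePresentation M (cone S s).pt m := ‹LocallyOfFinitePresentation m›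
  have i2 : @QuasiCompact M (cone S s).pt m := ‹QuasiCompact m›
  have i3 : @QuasiSeparated M (cone S s).pt m := ‹QuasiSeparated m›
  obtain ⟨V₀, X₀, f₀, g, hf1, hf2, hf3, hg⟩ := Groth.Agent.S0591.result (D S s) (cone S s) (isLimit S s) M m
  exact ⟨V₀.1, X₀, f₀, g, leg S s V₀, V₀.2.2, hf1, hf2, hf3, leg_ι S s V₀, hg⟩

/-- A smooth separated quasi-compact scheme over `Spec O_{S,s}` spreads out to a neighbourhood of `s`. -/
theorem exists_spread {S : Scheme.{u}} [IsNoetherian S] (s : S) {M : Scheme.{u}} (m : M ⟶ Spec (S.presheaf.stalk s))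
    [Smooth m] [IsSeparated m] [QuasiCompact m] :
    ∃ (V : S.Opens) (N : Scheme.{u}) (n : N ⟶ V.toScheme) (c : M ⟶ N), s ∈ V ∧ Smooth n ∧ IsSeparated n ∧
      QuasiCompact n ∧ IsPullback c m (n ≫ V.ι) (S.fromSpecStalk s) := by
  obtain ⟨V₀, X₀, f₀, g, l₀, hs₀, hf1, hf2, hf3, hl₀, hg⟩ := exists_obj s m
  let f : X₀ ⟶ S := f₀ ≫ V₀.ι
  have hsq : IsPullback g m f (S.fromSpecStalk s) := by
    rw [← hl₀]
    exact isPullback_comp_mono hg V₀.ι
  have j1 : LocallyOfFinitePresentation f := inferInstanceAs (LocallyOfFinitePresentation (f₀ ≫ V₀.ι))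
  have j2 : QuasiCompact f := inferInstanceAs (QuasiCompact (f₀ ≫ V₀.ι))
  have j3 : QuasiSeparated f := inferInstanceAs (QuasiSeparated (f₀ ≫ V₀.ι))
  obtain ⟨V₁, hs₁, hV₁⟩ := exists_prop Groth.Agent.Sga3.H515.LimSmooth.descendsLim_smooth s m f g hsq inferInstance
  obtain ⟨V₂, hs₂, hV₂⟩ := exists_prop Groth.Agent.Sga3.H515.LimSmooth.descendsLim_isSeparated s m f g hsq inferInstance
  let V : S.Opens := V₁ ⊓ V₂
  have hsV : s ∈ V := ⟨hs₁, hs₂⟩
  obtain ⟨l, hl⟩ := LocGlob.exists_leg V hsV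
  have k1 : Smooth (pullback.snd f V.ι) := of_le (P := @Smooth) f inf_le_left hV₁
  have k2 : IsSeparated (pullback.snd f V.ι) := of_le (P := @IsSeparated) f inf_le_right hV₂
  have hw : g ≫ f = (m ≫ l) ≫ V.ι := by
    rw [Category.assoc, hl]
    exact hsq.w
  refine ⟨V, pullback f V.ι, pullback.snd f V.ι, pullback.lift g (m ≫ l) hw, hsV, k1, k2, inferInstance, ?_⟩
  have h1 : IsPullback (pullback.lift g (m ≫ l) hw) m (pullback.snd f V.ι) l := by
    refine IsPullback.of_right (h₁₂ := pullback.fst f V.ι) (h₂₂ := V.ι) (v₁₃ := f) ?_ (pullback.lift_snd _ _ _)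
      (IsPullback.of_hasPullback _ _)
    rw [pullback.lift_fst, hl]
    exact hsq
  have h2 := isPullback_comp_mono h1 V.ι
  rwa [hl] at h2

end K131.SpreadObj
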